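import Mathlib
import Cfsg.Agent.H11.ElDefs

/-!
# The section `W/A` of `C(A)/A` against the lines through `A`
-/

set_option autoImplicit false
open Subgroup Cfsg.Agent.H11.EL

namespace Cfsg.Agent.H79.ElWk

universe u

section
variable {G : Type u} [Group G]

theorem ct_le_nm (A : Subgroup G) {c : G} (hc : c ∈ Ct A) : c ∈ Nm A :=
  centralizer_le_normalizer (A : Set G) hc

theorem cj_line {A B : Subgroup G} {w : G} (hw : w ∈ Ct A) :
    cj w (A ⊔ B) = A ⊔ cj w B := by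
  rw [cj_sup, cj_eq_iff.2 (ct_le_nm A hw)]

theorem fixl {A B : Subgroup G} {w g : G} (hw : w ∈ Ct A) (hg : g ∈ Nm (A ⊔ B))
    (ha : g * w * g⁻¹ * w⁻¹ ∈ A) : g ∈ Nm (A ⊔ cj w B) := by
  rw [← cj_eq_iff, ← cj_line hw, ← cj_mul]
  have hc : g * w * g⁻¹ * w⁻¹ * w = w * (g * w * g⁻¹ * w⁻¹) :=
    (mem_centralizer_iff.1 hw) _ ha
  have e : g * w = w * ((g * w * g⁻¹ * w⁻¹) * g) := by
    rw [← mul_assoc, ← hc]; group
  have hn : g * w * g⁻¹ * w⁻¹ * g ∈ Nm (A ⊔ B) :=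
    mul_mem (le_normalizer ((le_sup_left : A ≤ A ⊔ B) ha)) hg
  rw [e, cj_mul, cj_eq_iff.2 hn]

theorem nm_of_le {D : Set (Subgroup G)} {A B : Subgroup G} (h : Pr D A B) {w : G}
    (hw : w ∈ Ct A) (hle : cj w B ≤ A ⊔ B) : w ∈ Nm (A ⊔ B) := by
  have hne : A ≠ cj w B := by
    intro e
    apply h.AB
    have e1 : cj w⁻¹ A = A := cj_eq_iff.2 (inv_mem (ct_le_nm A hw))
    have e2 : cj w⁻¹ (cj w B) = B := by rw [← cj_mul, inv_mul_cancel, cj_one]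
    rw [← e2, ← e, e1]
  rw [← cj_eq_iff, cj_line hw]
  exact h.ne.line A h.hA B h.hB A h.hA (cj w B) (h.ne.conj B h.hB w) hne le_sup_left hle

end

theorem wk (b : Base.{u}) : WKStmt.{u} := by
  intro G _ _ D A B W l h ws
  have lp : LP A B := h.ne.lp A h.hA B h.hB h.AB
  obtain ⟨f, s, lc1⟩ := b.lc1 A B lp
  have lt := b.lt A B f s lp (b.lc A B f s lp lc1)
  have key : W ⊓ Ct (A ⊔ B) = ⊥ → ∀ w ∈ W, w ∈ Nm (A ⊔ B) → w ∈ A := by
    intro hb w hw hn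
    obtain ⟨k, hk, a, ha, e⟩ := lt.CM w (ws.ct hw) hn
    have hkW : k ∈ W := by
      have : k = w * a⁻¹ := by rw [e]; group
      rw [this]; exact mul_mem hw (inv_mem (ws.le ha))
    have : k ∈ W ⊓ Ct (A ⊔ B) := ⟨hkW, hk⟩
    rw [hb, mem_bot] at this
    rw [e, this, one_mul]; exact ha
  refine ⟨fun k hkW hk hk1 => ⟨hk, hk1, ?_⟩, fun hb g hgA hgB w hw ha => ?_,
    fun hb k hk hk1 w hw hc => ?_⟩
  · by_cases hex : ∃ w ∈ W, ¬ cj w B ≤ A ⊔ B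
    · obtain ⟨w, hw, hn⟩ := hex
      exact ⟨cj w B, h.ne.conj B h.hB w, hn,
        fixl (ws.ct hw) (ct_le_nm _ hk) (ws.ab k hkW w hw)⟩
    · push Not at hex
      obtain ⟨E, hE, hn⟩ := h.ne.out A h.hA B h.hB
      have hEA : E ≠ A := by
        rintro rfl; exact hn le_sup_left
      obtain ⟨c, hc, e⟩ := h.ne.ctr A h.hA B h.hB E hE h.AB.symm hEA
      refine ⟨E, hE, hn, ?_⟩
      have hcW : c⁻¹ ∈ Nm W := ws.nm (inv_mem (ct_le_nm A hc))
      have hk' : c⁻¹ * k * c ∈ W := by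
        have := (mem_normalizer_iff.1 hcW k).1 hkW
        simpa using this
      have hn' : c⁻¹ * k * c ∈ Nm (A ⊔ B) := nm_of_le h (ws.ct hk') (hex _ hk')
      rw [← cj_eq_iff, ← e, ← cj_line hc, ← cj_mul]
      have e2 : k * c = c * (c⁻¹ * k * c) := by group
      rw [e2, cj_mul, cj_eq_iff.2 hn']
  · have hg : g ∈ Nm (A ⊔ B) := by
      rw [← cj_eq_iff, cj_sup, cj_eq_iff.2 hgA, cj_eq_iff.2 hgB]
    by_cases hle : cj w B ≤ A ⊔ B
    · exact Or.inl (key hb w hw (nm_of_le h (ws.ct hw) hle))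
    · exact Or.inr ⟨cj w B, h.ne.conj B h.hB w, hle, fixl (ws.ct hw) hg ha⟩
  · refine key hb w hw (h.ne.ti A h.hA B h.hB h.AB k hk hk1 w ?_)
    have : w * k * w⁻¹ = k := by rw [hc.eq]; group
    rw [this]; exact hk

end Cfsg.Agent.H79.ElWk
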