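import Cfsg.Agent.Lead.T3Defs
import Cfsg.Agent.H79.QuadWitt
import Cfsg.Agent.H31.FieldInv

/-! Project T3: the parameters of a finite pseudo-quadratic space (piece QB1). -/

set_option autoImplicit false

namespace Cfsg.Agent.H79.T3Q

open Cfsg.Agent.Lead.T3 Cfsg.Agent.H31

universe u

variable {F : Type} {Y : Type u} [Field F] [Group Y] (d : QD F Y)

theorem Q_one : d.Q 1 = 0 := by rw [← d.sm_zero 1, d.Q_sm]; simp

theorem B_one_left (y : Y) : d.Bf 1 y = 0 := by simpa using d.B_left 1 1 y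

theorem B_one_right (y : Y) : d.Bf y 1 = 0 := by simpa using d.B_right y 1 1

theorem z_zero : d.z 0 = 1 := by simpa using d.z_add 0 0

theorem z_neg (t : F) : d.z (-t) = (d.z t)⁻¹ :=
  eq_inv_of_mul_eq_one_left (by rw [← d.z_add, neg_add_cancel, z_zero])

theorem sm_one' (t : F) : d.sm t 1 = 1 := by simpa using d.sm_mul t 1 1

theorem B_zl (t : F) (y : Y) : d.Bf (d.z t) y = 0 := by
  have := congrArg d.Q (d.z_comm t y)
  rw [d.Q_mul, d.Q_mul, d.B_z] at this
  linear_combination this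

theorem Q_mul_z (y : Y) (t : F) : d.Q (y * d.z t) = d.Q y + d.Q (d.z t) := by
  rw [d.Q_mul, d.B_z, add_zero]

theorem Qz_add (s t : F) : d.Q (d.z (s + t)) = d.Q (d.z s) + d.Q (d.z t) := by
  rw [d.z_add, Q_mul_z]

theorem Qz_neg (t : F) : d.Q (d.z (-t)) = -d.Q (d.z t) := by
  have := Qz_add d (-t) t
  rw [neg_add_cancel, z_zero, Q_one] at this
  linear_combination -this

theorem Qz_inj {s t : F} (h : d.Q (d.z s) = d.Q (d.z t)) : d.z s = d.z t := by
  have := d.Q_ne (d.z (s + -t)) (by rw [Qz_add, Qz_neg, h, add_neg_cancel])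
  rwa [d.z_add, z_neg, mul_inv_eq_one] at this

theorem sm_neg_one (y : Y) : d.sm (-1) y = y⁻¹ * d.z (d.Q y) := by
  have := d.sm_add (-1) 1 y
  rw [neg_add_cancel, d.sm_zero, d.sm_one, map_neg, map_one, mul_one, neg_one_mul, z_neg] at this
  rw [eq_inv_of_mul_eq_one_right this.symm, mul_inv_rev, inv_inv, d.z_comm]

theorem comm (y y' : Y) : y * y' = y' * y * d.z (d.Bf y y') := by
  have := d.sm_mul (-1) y y'
  rw [sm_neg_one, sm_neg_one, sm_neg_one, d.Q_mul, add_comm, d.z_add, d.z_add, mul_assoc y⁻¹,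
    ← mul_assoc (d.z _) y'⁻¹, d.z_comm _ y'⁻¹, ← mul_assoc, mul_assoc y'⁻¹, ← mul_assoc y⁻¹,
    mul_right_cancel_iff, ← d.z_comm] at this
  rw [← d.z_comm]
  calc y * y' = y * y' * (y'⁻¹ * y⁻¹)⁻¹⁻¹ * (y * y') := by group
    _ = _ := by
      have h2 : d.z (d.Bf y y') = y⁻¹ * y'⁻¹ * (y * y') := by rw [← this]; group
      have h3 := d.z_comm (d.Bf y y') (y' * y)
      rw [h3, h2]; group

theorem B_sub (y y' : Y) : d.Bf y y' = d.Bf y' y + d.Q (d.z (d.Bf y y')) := by
  have := congrArg d.Q (comm d y y')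
  rw [Q_mul_z, d.Q_mul, d.Q_mul] at this
  linear_combination this

theorem B_self (y : Y) : d.Bf y y = 2 * d.Q y - d.Q (d.z (d.Q y)) := by
  have h1 := congrArg d.Q (sm_neg_one d y)
  have h2 := d.Q_mul y y⁻¹
  have h3 := d.B_right y y y⁻¹
  rw [Q_mul_z, d.Q_sm, map_neg, map_one] at h1
  rw [mul_inv_cancel, Q_one] at h2
  rw [mul_inv_cancel, B_one_right] at h3
  linear_combination -h1 + h2 - h3

theorem B_inv (y a : Y) : d.Bf y a⁻¹ = -d.Bf y a := by
  have := d.B_right y a a⁻¹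
  rw [mul_inv_cancel, B_one_right] at this
  linear_combination -this

theorem z_mem {y : Y} (hy : y ≠ 1) (u : F) :
    d.z u ∈ Subgroup.closure (Set.range fun t => d.sm t y) := by
  have h := d.sm_add 1 (u / d.Q y) y
  rw [map_one, one_mul, div_mul_cancel₀ _ fun e => hy (d.Q_ne y e)] at h
  have m : ∀ t, d.sm t y ∈ Subgroup.closure (Set.range fun t => d.sm t y) := fun t =>
    Subgroup.subset_closure ⟨t, rfl⟩
  have := mul_mem (mul_mem (inv_mem (m (u / d.Q y))) (m (1 + u / d.Q y))) (inv_mem (m 1))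
  rwa [h, show ∀ a b c : Y, a⁻¹ * (a * b * c) * c⁻¹ = b from fun a b c => by group] at this

/-! ### The orthogonal case -/

section Orth

variable (hz : ∀ t, d.z t = 1)
include hz

theorem mul_comm' (y y' : Y) : y * y' = y' * y := by rw [comm d y y', hz, mul_one]

theorem B_symm (y y' : Y) : d.Bf y y' = d.Bf y' y := by rw [B_sub, hz, Q_one, add_zero]

theorem σ_eq [Nontrivial Y] (t : F) : d.σ t = t := by
  obtain ⟨y, hy⟩ := exists_ne (1 : Y)
  have hQ : d.Q y ≠ 0 := fun e => hy (d.Q_ne y e)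
  have h1 := d.B_sml t y y
  rw [B_symm d hz, d.B_smr, B_self, hz, Q_one, sub_zero] at h1
  have h2 := congrArg d.Q (d.sm_add t 1 y)
  rw [hz, mul_one, d.Q_mul, d.sm_one, d.B_smr, d.Q_sm, d.Q_sm, B_self, hz, Q_one, map_add,
    map_one] at h2
  apply mul_right_cancel₀ hQ
  linear_combination h2

theorem sm_inj {y : Y} (hy : y ≠ 1) : Function.Injective fun t => d.sm t y := fun s t e => by
  have h := d.sm_add (s - t) t y
  rw [sub_add_cancel, hz, mul_one, show d.sm s y = d.sm t y from e, left_eq_mul] at h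
  have := d.Q_sm (s - t) y
  rw [h, Q_one, eq_comm, mul_eq_zero, mul_eq_zero, map_eq_zero, or_self, sub_eq_zero] at this
  exact this.resolve_right fun e => hy (d.Q_ne y e)

omit hz

/-- The group is abelian. -/
@[reducible] def acg (hz : ∀ t, d.z t = 1) : AddCommGroup (Additive Y) :=
  { (inferInstance : AddGroup (Additive Y)) with
    add_comm := fun a b => mul_comm' d hz a.toMul b.toMul }

/-- The module structure. -/
@[reducible] def mod (hz : ∀ t, d.z t = 1) :
    @Module F (Additive Y) _ (acg d hz).toAddCommMonoid :=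
  letI := acg d hz
  { smul := fun t y => Additive.ofMul (d.sm t y.toMul)
    one_smul := d.sm_one
    mul_smul := fun s t y => (d.sm_sm s t y).symm
    smul_zero := sm_one' d
    smul_add := d.sm_mul
    add_smul := fun s t y => (d.sm_add s t y).trans (by rw [hz, mul_one, mul_comm' d hz]; rfl)
    zero_smul := d.sm_zero }

/-- The quadratic form. -/
def quad [Nontrivial Y] (hz : ∀ t, d.z t = 1) :
    @QuadraticForm F (Additive Y) _ (acg d hz).toAddCommMonoid (mod d hz) :=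
  letI := acg d hz
  letI := mod d hz
  { toFun := fun y => d.Q y.toMul
    toFun_smul := fun t y => (d.Q_sm t y).trans (by rw [σ_eq d hz]; rfl)
    exists_companion' := ⟨LinearMap.mk₂ F (fun y y' => d.Bf y.toMul y'.toMul) d.B_left
      (fun t y y' => (d.B_sml t y y').trans (by rw [σ_eq d hz]; rfl)) d.B_right d.B_smr,
      d.Q_mul⟩ }

theorem card_orth [Finite F] [Finite Y] [Nontrivial Y] (hz : ∀ t, d.z t = 1) :
    Nat.card Y = Nat.card F ∨ Nat.card Y = Nat.card F ^ 2 := by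
  let := acg d hz
  let := mod d hz
  have h1 := finrank_le_two_of_anisotropic (quad d hz) d.Q_ne
  have h2 : 0 < Module.finrank F (Additive Y) := Module.finrank_pos
  have h3 : Nat.card Y = Nat.card F ^ Module.finrank F (Additive Y) :=
    Module.natCard_eq_pow_finrank (V := Additive Y)
  rw [h3]
  interval_cases Module.finrank F (Additive Y) <;> simp

end Orth

/-! ### The symplectic and unitary cases -/

theorem star (s t u : F) : d.Q (d.z (d.σ s * t * d.Q (d.z u))) =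
    (d.σ s * t + d.σ t * s) * d.Q (d.z u) := by
  have h := congrArg d.Q (d.sm_add s t (d.z u))
  rw [d.Q_sm, d.sm_z s u, Q_mul_z, Q_mul_z, ← d.sm_z, d.Q_sm, d.Q_sm, map_add] at h
  linear_combination -h

/-- The normalization of the centre. -/
structure Un (c : F) : Prop where
  ne : c ≠ 0
  Qz : ∀ t, d.Q (d.z (t * c)) = (t + d.σ t) * c
  inv : ∀ s, d.σ (d.σ s) = s
  tr : ∃ t, t + d.σ t = 1

theorem un {u : F} (hu : d.z u ≠ 1) : Un d (d.Q (d.z u)) := by
  have h0 : d.Q (d.z u) ≠ 0 := fun e => hu (d.Q_ne _ e)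
  have h1 : ∀ t, d.Q (d.z (t * d.Q (d.z u))) = (t + d.σ t) * d.Q (d.z u) := fun t => by
    simpa using star d 1 t u
  refine ⟨h0, h1, fun s => mul_right_cancel₀ h0 ?_, u / d.Q (d.z u), mul_right_cancel₀ h0 ?_⟩
  · have := star d s 1 u
    rw [mul_one, h1, map_one] at this
    linear_combination this
  · rw [← h1, div_mul_cancel₀ _ h0, one_mul]

namespace Un

variable {d} {c : F} (h : Un d c)
include h

theorem Qz' (x : F) : d.Q (d.z x) = (x / c + d.σ (x / c)) * c := by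
  rw [← h.Qz, div_mul_cancel₀ _ h.ne]

theorem B_self (y : Y) : d.Bf y y = (d.Q y / c - d.σ (d.Q y / c)) * c := by
  rw [T3Q.B_self, h.Qz', sub_mul, add_mul, div_mul_cancel₀ _ h.ne]; ring

theorem B_swap (y y' : Y) : d.Bf y' y = -d.σ (d.Bf y y' / c) * c := by
  have := B_sub d y y'
  rw [h.Qz', add_mul, div_mul_cancel₀ _ h.ne] at this
  linear_combination -this

theorem exists_Qz {a : F} (ha : d.σ a = a) : ∃ u, d.Q (d.z u) = a * c := by
  obtain ⟨t, ht⟩ := h.tr
  exact ⟨a * t * c, by rw [h.Qz, map_mul, ha, ← mul_add, ht, mul_one]⟩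

theorem fixed (u : F) : d.σ (d.Q (d.z u) / c) = d.Q (d.z u) / c := by
  rw [h.Qz', mul_div_cancel_right₀ _ h.ne, map_add, h.inv, add_comm]

theorem mem_range {y : Y} (hy : d.Bf y y = 0) : ∃ u, d.z u = y := by
  rw [h.B_self, mul_eq_zero, sub_eq_zero, or_iff_left h.ne] at hy
  obtain ⟨u, hu⟩ := h.exists_Qz hy.symm
  refine ⟨u, (mul_inv_eq_one.1 (d.Q_ne _ ?_)).symm⟩
  rw [← z_neg, Q_mul_z, Qz_neg, hu, div_mul_cancel₀ _ h.ne, add_neg_cancel]

theorem card_range : Nat.card (Set.range d.z) = Nat.card (fixedField (d.σ : F →+* F)) := by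
  refine Nat.card_eq_of_bijective (fun y => ⟨d.Q y / c, by
    obtain ⟨_, u, rfl⟩ := y; exact h.fixed u⟩) ⟨?_, fun ⟨a, ha⟩ => ?_⟩
  · rintro ⟨_, u, rfl⟩ ⟨_, v, rfl⟩ e
    exact Subtype.ext (Qz_inj d ((div_left_inj' h.ne).1 (congrArg Subtype.val e)))
  · obtain ⟨u, hu⟩ := h.exists_Qz ha
    exact ⟨⟨_, u, rfl⟩, Subtype.ext (by simp only [hu, mul_div_cancel_right₀ _ h.ne])⟩

theorem invol {y : Y} (hy : d.Bf y y ≠ 0) : IsInvol (d.σ : F →+* F) :=
  ⟨h.inv, d.Q y / c, fun e => hy (by rw [h.B_self, show d.σ _ = _ from e, sub_self, zero_mul])⟩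

/-- The hermitian space has dimension at most one. -/
theorem exists_sm [Finite F] {y0 : Y} (h0 : d.Bf y0 y0 ≠ 0) (y : Y) :
    ∃ s u, y = d.sm s y0 * d.z u := by
  set y1 := (d.sm (d.Bf y0 y / d.Bf y0 y0) y0)⁻¹ * y with hy1
  have h1 : d.Bf y0 y1 = 0 := by
    rw [hy1, d.B_right, B_inv, d.B_smr, div_mul_cancel₀ _ h0, neg_add_cancel]
  have h2 : d.Bf y1 y0 = 0 := by rw [h.B_swap, h1]; simp
  have h3 : ∀ x, d.σ (d.Bf x x / c) = -(d.Bf x x / c) := fun x => by
    rw [h.B_self, mul_div_cancel_right₀ _ h.ne, map_sub, h.inv, neg_sub]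
  obtain ⟨t, ht⟩ := (h.invol h0).exists_norm_eq (a := -(d.Bf y1 y1 / c) / (d.Bf y0 y0 / c)) (by
    change d.σ _ = _
    rw [map_div₀, map_neg, h3, h3, neg_div_neg_eq])
  have ht' : t * d.σ t * d.Bf y0 y0 = -d.Bf y1 y1 := by
    rw [show t * d.σ t = _ from ht]
    have := h.ne
    field_simp
  obtain ⟨u, hu⟩ := h.mem_range (y := y1 * d.sm t y0) (by
    rw [d.B_left, d.B_right y1 y1, d.B_right _ y1, d.B_smr, d.B_smr, d.B_sml, d.B_sml, h1, h2]
    linear_combination ht')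
  have h4 := d.B_z y0 u
  rw [hu, d.B_right, h1, d.B_smr, zero_add, mul_eq_zero, or_iff_left h0] at h4
  rw [h4, d.sm_zero, mul_one, hy1, eq_inv_mul_iff_mul_eq] at hu
  exact ⟨_, u, hu.symm⟩

theorem card_eq [Finite F] {y0 : Y} (h0 : d.Bf y0 y0 ≠ 0) :
    Nat.card Y = Nat.card F * Nat.card (Set.range d.z) := by
  rw [← Nat.card_prod]
  refine (Nat.card_eq_of_bijective (fun x : F × Set.range d.z => d.sm x.1 y0 * x.2)
    ⟨?_, fun y => ?_⟩).symm
  · rintro ⟨s, _, u, rfl⟩ ⟨t, _, v, rfl⟩ e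
    have h1 := congrArg (d.Bf y0) e
    simp only [d.B_right, d.B_z, d.B_smr, add_zero] at h1
    obtain rfl := mul_right_cancel₀ h0 h1
    exact Prod.ext rfl (Subtype.ext (mul_left_cancel e))
  · obtain ⟨s, u, e⟩ := h.exists_sm h0 y
    exact ⟨⟨s, _, u, rfl⟩, e.symm⟩

end Un

theorem qb1Stmt : Qb1Stmt.{u} := by
  intro F Y _ _ _ _ _ d
  by_cases hz : ∀ t, d.z t = 1
  · refine ⟨Or.inl ⟨hz, card_orth d hz⟩, fun hc => ⟨fun y y' hy => Subgroup.subset_closure
      (((sm_inj d hz hy).bijective_of_nat_card_le hc).2 y'), Or.inl hz⟩⟩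
  obtain ⟨u, hu⟩ := not_forall.1 hz
  have h := un d hu
  have h2 := h.card_range
  by_cases h0 : ∀ y, d.Bf y y = 0
  · have h1 : Set.range d.z = Set.univ := Set.eq_univ_of_forall fun y => h.mem_range (h0 y)
    rw [h1, Nat.card_univ] at h2
    refine ⟨Or.inr ⟨hz, ?_⟩, fun _ => ⟨fun y y' hy => ?_, Or.inr fun y y' => ?_⟩⟩
    · by_cases hs : ∀ x, d.σ x = x
      · refine Or.inl ⟨h2.trans (Nat.card_congr (Equiv.subtypeUnivEquiv hs)), ?_⟩
        obtain ⟨t, ht⟩ := h.tr
        have := Fintype.ofFinite F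
        rw [Nat.card_eq_fintype_card, Nat.odd_iff]
        refine FiniteField.odd_card_of_char_ne_two fun e => ?_
        have h3 : ((2 : ℕ) : F) = 0 := (ringChar.spec F 2).2 (e ▸ dvd_rfl)
        rw [hs, ← two_mul, show (2 : F) = 0 from h3, zero_mul] at ht
        exact zero_ne_one ht
      · exact Or.inr ⟨_, IsInvol.card_eq_sq (σ := (d.σ : F →+* F)) ⟨h.inv, not_forall.1 hs⟩,
          Or.inl h2⟩
    · obtain ⟨v, rfl⟩ := h.mem_range (h0 y')
      exact z_mem d hy v
    · obtain ⟨v, rfl⟩ := h.mem_range (h0 y')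
      exact d.B_z y v
  · obtain ⟨y0, h0⟩ := not_forall.1 h0
    have h3 := h.card_eq h0
    have h4 := (h.invol h0).card_eq_sq
    refine ⟨Or.inr ⟨hz, Or.inr ⟨_, h4, Or.inr (by rw [h3, h2, h4, ← pow_succ])⟩⟩, fun hc => ?_⟩
    have : Nontrivial (Set.range d.z) := ⟨⟨⟨_, u, rfl⟩, ⟨_, 0, rfl⟩, fun e =>
      hu ((congrArg Subtype.val e).trans (z_zero d))⟩⟩
    have h5 := Finite.one_lt_card (α := Set.range d.z)
    have h6 : 0 < Nat.card F := Nat.card_pos
    exfalso
    nlinarith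

end Cfsg.Agent.H79.T3Q
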