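import Mathlib
import Cfsg.Prelude.Def_Transfer
import Cfsg.Agent.H79.TwoRank
import Cfsg.Agent.H27.AltCard

/-! Wreath products `H ≀ Sym(ι)` acting on `ι → W`, and Sylow `2`-subgroups of `GL_n(q)` and
`Sp_{2n}(q)` for odd `q`. -/

set_option autoImplicit false
open Cfsg Module
open scoped commutatorElement

namespace Cfsg.Agent.H79

section Val

theorem val_pow_sub_one_of_odd {x n : ℕ} (h1 : 1 < x) (hx : Odd x) (hn : Odd n) :
    padicValNat 2 (x ^ n - 1) = padicValNat 2 (x - 1) := by
  obtain ⟨y, rfl⟩ : ∃ y, x = y + 1 := ⟨x - 1, by omega⟩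
  have h := geom_sum_mul_add y n
  have h2 : Odd (∑ i ∈ Finset.range n, (y + 1) ^ i) := by
    rw [Finset.odd_sum_iff_odd_card_odd, Finset.filter_true_of_mem fun i _ => hx.pow,
      Finset.card_range]
    exact hn
  rw [← h, Nat.add_sub_cancel, Nat.add_sub_cancel, padicValNat.mul h2.pos.ne' (by omega),
    padicValNat.eq_zero_of_not_dvd h2.not_two_dvd_nat, zero_add]

theorem val_eq_one_of_mod {x : ℕ} (h : x % 4 = 2) : padicValNat 2 x = 1 := by
  obtain ⟨k, rfl⟩ : ∃ k, x = 2 * (2 * k + 1) := ⟨x / 4, by omega⟩
  rw [padicValNat.mul (by norm_num) (by omega), padicValNat.self (by norm_num),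
    padicValNat.eq_zero_of_not_dvd (by omega)]

theorem val_pow_sub_one {x n : ℕ} (h1 : 1 < x) (hx : x % 4 = 1) (hn : n ≠ 0) :
    padicValNat 2 (x ^ n - 1) = padicValNat 2 (x - 1) + padicValNat 2 n := by
  rcases Nat.even_or_odd n with h | h
  · have := padicValNat.pow_two_sub_one h1 (by omega) hn h
    rw [val_eq_one_of_mod (x := x + 1) (by omega)] at this
    omega
  · rw [val_pow_sub_one_of_odd h1 (Nat.odd_iff.2 (by omega)) h,
      padicValNat.eq_zero_of_not_dvd h.not_two_dvd_nat, add_zero]

theorem prod_pow_sub_one_ne_zero {x : ℕ} (h1 : 1 < x) (n : ℕ) :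
    ∏ i ∈ Finset.range n, (x ^ (i + 1) - 1) ≠ 0 :=
  Finset.prod_ne_zero_iff.2 fun _ _ => Nat.sub_ne_zero_of_lt (Nat.one_lt_pow (by omega) h1)

theorem val_prod_one {x : ℕ} (h1 : 1 < x) (hx : x % 4 = 1) (n : ℕ) :
    padicValNat 2 (∏ i ∈ Finset.range n, (x ^ (i + 1) - 1)) =
      n * padicValNat 2 (x - 1) + padicValNat 2 n.factorial := by
  induction n with
  | zero => simp
  | succ n ih =>
    rw [Finset.prod_range_succ, padicValNat.mul (prod_pow_sub_one_ne_zero h1 n)
      (Nat.sub_ne_zero_of_lt (Nat.one_lt_pow (by omega) h1)), ih, val_pow_sub_one h1 hx (by omega),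
      Nat.factorial_succ, padicValNat.mul (by omega) n.factorial_ne_zero]
    ring

theorem sq_mod_four {x : ℕ} (hx : Odd x) : x ^ 2 % 4 = 1 := by
  obtain ⟨k, rfl⟩ := hx
  rw [show (2 * k + 1) ^ 2 = 4 * (k * k + k) + 1 by ring]
  omega

theorem val_prod_three {x : ℕ} (hx : x % 4 = 3) (k : ℕ) :
    padicValNat 2 (∏ i ∈ Finset.range (2 * k), (x ^ (i + 1) - 1)) =
      k * (padicValNat 2 (x ^ 2 - 1) + 1) + padicValNat 2 k.factorial := by
  have h1 : 1 < x := by omega
  have ho : Odd x := Nat.odd_iff.2 (by omega)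
  induction k with
  | zero => simp
  | succ k ih =>
    rw [mul_add, mul_one, Finset.prod_range_succ, padicValNat.mul (prod_pow_sub_one_ne_zero h1 _)
      (Nat.sub_ne_zero_of_lt (Nat.one_lt_pow (by omega) h1)), Finset.prod_range_succ,
      padicValNat.mul (prod_pow_sub_one_ne_zero h1 _)
      (Nat.sub_ne_zero_of_lt (Nat.one_lt_pow (by omega) h1)), ih,
      val_pow_sub_one_of_odd h1 ho (odd_two_mul_add_one k), val_eq_one_of_mod (x := x - 1) (by omega),
      show 2 * k + 1 + 1 = 2 * (k + 1) by ring, pow_mul,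
      val_pow_sub_one (Nat.one_lt_pow (by omega) h1) (sq_mod_four ho) (by omega),
      Nat.factorial_succ, padicValNat.mul (by omega) k.factorial_ne_zero]
    ring

theorem val_card_GL {F : Type*} [Field F] [Fintype F] (hodd : Odd (Fintype.card F)) (n : ℕ) :
    padicValNat 2 (Nat.card (GL (Fin n) F)) =
      padicValNat 2 (∏ i ∈ Finset.range n, (Fintype.card F ^ (i + 1) - 1)) := by
  rw [Matrix.card_GL_field, Fin.prod_univ_eq_prod_range
    (fun i => Fintype.card F ^ n - Fintype.card F ^ i), ← Finset.prod_range_reflect]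
  have : ∀ i ∈ Finset.range n, Fintype.card F ^ n - Fintype.card F ^ (n - 1 - i) =
      Fintype.card F ^ (n - 1 - i) * (Fintype.card F ^ (i + 1) - 1) := fun i hi => by
    rw [Finset.mem_range] at hi
    rw [Nat.mul_sub, mul_one, ← pow_add]
    congr 2; omega
  rw [Finset.prod_congr rfl this, Finset.prod_mul_distrib, Finset.prod_pow_eq_pow_sum,
    padicValNat.mul (by positivity) (prod_pow_sub_one_ne_zero Fintype.one_lt_card n),
    padicValNat.eq_zero_of_not_dvd hodd.pow.not_two_dvd_nat, zero_add]

theorem val_card_sp {F : Type*} [Field F] [Fintype F] (hodd : Odd (Fintype.card F)) (n : ℕ) :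
    padicValNat 2 (Nat.card (Matrix.symplecticGroup (Fin n) F)) =
      n * padicValNat 2 (Fintype.card F ^ 2 - 1) + padicValNat 2 n.factorial := by
  have h1 : 1 < Fintype.card F ^ 2 := Nat.one_lt_pow (by omega) Fintype.one_lt_card
  rw [H27.card_sp, H27.spOrder, Fintype.card_fin]
  simp only [pow_mul]
  rw [padicValNat.mul (by positivity) (prod_pow_sub_one_ne_zero h1 n),
    padicValNat.eq_zero_of_not_dvd hodd.pow.not_two_dvd_nat, zero_add,
    val_prod_one h1 (sq_mod_four hodd)]

end Val

section Sylow
variable {M G : Type*} [Group M] [Group G]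

theorem nonempty_sylow_equiv [Finite G] {p : ℕ} [Fact p.Prime] (φ : M →* G)
    (hφ : Function.Injective φ) (h : padicValNat p (Nat.card M) = padicValNat p (Nat.card G))
    (T : Sylow p M) (S : Sylow p G) : Nonempty (T ≃* S) := by
  have : Finite M := Finite.of_injective φ hφ
  let S' : Sylow p G := Sylow.ofCard ((T : Subgroup M).map φ) (by
    rw [Subgroup.card_map_of_injective hφ, T.card_eq_multiplicity,
      Nat.factorization_def _ Fact.out, Nat.factorization_def _ Fact.out, h])
  exact ⟨((T : Subgroup M).equivMapOfInjective φ hφ).trans (Sylow.equiv S' S)⟩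

theorem exists_normal_elemAb [Finite M] (E : Subgroup M) [hE : E.Normal]
    (hE' : IsElementaryAbelian 2 E) (T : Sylow 2 M) (e : T ≃* G) :
    ∃ E' : Subgroup G, E'.Normal ∧ IsElementaryAbelian 2 E' ∧ Nat.card E' = Nat.card E := by
  have hle : E ≤ T := IsPGroup.le_sylow_of_normal
    (fun g => ⟨1, Subtype.ext (by simpa using hE'.2 g.1 g.2)⟩) T
  have := hE'.1
  refine ⟨(E.subgroupOf T).map e.toMonoidHom, Subgroup.Normal.map inferInstance _ e.surjective,
    ⟨inferInstance, ?_⟩, ?_⟩
  · rintro _ ⟨a, ha, rfl⟩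
    rw [← map_pow, show a ^ 2 = 1 from Subtype.ext (hE'.2 a.1 ha), map_one]
  · rw [Subgroup.card_map_of_injective e.injective,
      Nat.card_congr (Subgroup.subgroupOfEquivOfLe hle).toEquiv]

theorem isElementaryAbelian_range {A : Type*} [CommGroup A] (hA : ∀ a : A, a ^ 2 = 1)
    (φ : A →* G) : IsElementaryAbelian 2 φ.range :=
  ⟨inferInstance, by rintro _ ⟨a, rfl⟩; rw [← map_pow, hA, map_one]⟩

theorem derivedSeries_ne_bot_of_injective (φ : M →* G) (hφ : Function.Injective φ) {d : ℕ}
    (h : derivedSeries M d ≠ ⊥) : derivedSeries G d ≠ ⊥ := fun h' =>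
  h ((Subgroup.map_eq_bot_iff_of_injective _ hφ).1
    (eq_bot_iff.2 ((map_derivedSeries_le_derivedSeries φ d).trans h'.le)))

theorem exists_hom_sylow [Finite G] {p : ℕ} [Fact p.Prime] (hM : IsPGroup p M) (φ : M →* G)
    (hφ : Function.Injective φ) (S : Sylow p G) : ∃ ψ : M →* S, Function.Injective ψ := by
  obtain ⟨T, hT⟩ := (hM.of_surjective φ.rangeRestrict φ.rangeRestrict_surjective).exists_le_sylow
  refine ⟨(Sylow.equiv T S).toMonoidHom.comp ((Subgroup.inclusion hT).comp φ.rangeRestrict), ?_⟩
  exact (Sylow.equiv T S).injective.comp ((Subgroup.inclusion_injective hT).comp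
    fun _ _ h => hφ (congrArg Subtype.val h))

end Sylow

section Wreath

/-- The wreath product `H ≀ Sym(ι)`. -/
abbrev Wr (ι H : Type*) [Group H] : Type _ := (ι → H) ⋊[mulAutArrow] Equiv.Perm ι

variable {ι H : Type*} [Group H]

theorem card_wr [Fintype ι] : Nat.card (Wr ι H) =
    Nat.card H ^ Fintype.card ι * (Fintype.card ι).factorial := by
  classical
  rw [SemidirectProduct.card, Nat.card_perm, Nat.card_fun, Nat.card_eq_fintype_card (α := ι)]

theorem wr_mul_left (x y : Wr ι H) (i : ι) : (x * y).left i = x.left i * y.left (x.right⁻¹ i) := rfl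

theorem wr_finite [Finite ι] [Finite H] : Finite (Wr ι H) :=
  Finite.of_equiv _ SemidirectProduct.equivProd.symm

/-- The signs in the base group. -/
def wrSigns (ι : Type*) (ζ : ℤˣ →* H) : (ι → ℤˣ) →* Wr ι H :=
  SemidirectProduct.inl.comp (ζ.compLeft ι)

theorem wrSigns_injective {ζ : ℤˣ →* H} (hζ : Function.Injective ζ) :
    Function.Injective (wrSigns ι ζ) := fun _ _ h =>
  funext fun i => hζ (congrFun (SemidirectProduct.inl_injective h) i)

theorem wrSigns_normal {ζ : ℤˣ →* H} (hζ : ∀ a h, h * ζ a = ζ a * h) :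
    (wrSigns ι ζ).range.Normal := by
  refine ⟨?_⟩
  rintro _ ⟨ε, rfl⟩ x
  refine ⟨fun i => ε (x.right⁻¹ i), ?_⟩
  rw [eq_mul_inv_iff_mul_eq]
  refine SemidirectProduct.ext (funext fun i => ?_) (by simp [wrSigns])
  rw [wr_mul_left, wr_mul_left]
  exact (hζ _ _).symm

theorem isPGroup_wr_two {P : Type*} [Group P] [Finite P] (hP : IsPGroup 2 P) :
    IsPGroup 2 (Wr (Fin 2) P) := by
  obtain ⟨k, hk⟩ := IsPGroup.iff_card.1 hP
  refine IsPGroup.of_card (n := k * 2 + 1) ?_
  rw [card_wr, hk, Fintype.card_fin, ← pow_mul, pow_succ]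
  rfl

theorem mul_inv_of_one {P : Type*} [Group P] (g : P) : g * 1⁻¹ = g := by simp

theorem derivedSeries_wr_two {P : Type*} [Group P] {d : ℕ} (h : derivedSeries P d ≠ ⊥) :
    derivedSeries (Wr (Fin 2) P) (d + 1) ≠ ⊥ := by
  have key : ∀ d, derivedSeries P d ≤ ((derivedSeries (Wr (Fin 2) P) (d + 1)).comap
      SemidirectProduct.inl).map (Pi.evalMonoidHom (fun _ => P) 0) := by
    intro d
    induction d with
    | zero =>
      intro g _
      refine ⟨![g, g⁻¹], ?_, rfl⟩
      have : (SemidirectProduct.inl ![g, g⁻¹] : Wr (Fin 2) P) =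
          ⁅(SemidirectProduct.inl ![g, 1] : Wr (Fin 2) P),
            SemidirectProduct.inr (Equiv.swap 0 1)⁆ := by
        rw [commutatorElement_def, mul_assoc, mul_assoc, ← map_inv, ← map_inv, ← mul_assoc _ _
          (SemidirectProduct.inr _), ← SemidirectProduct.inl_aut, ← map_mul]
        congr 1
        funext i
        fin_cases i
        · exact (mul_inv_of_one g).symm
        · exact (one_mul _).symm
      rw [Subgroup.coe_comap, Set.mem_preimage, this]
      exact Subgroup.commutator_mem_commutator trivial trivial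
    | succ d ih =>
      rw [derivedSeries_succ]
      refine (Subgroup.commutator_mono ih ih).trans ?_
      rw [← Subgroup.map_commutator]
      refine Subgroup.map_mono ?_
      rw [← Subgroup.map_le_iff_le_comap, Subgroup.map_commutator, derivedSeries_succ _ (d + 1)]
      exact Subgroup.commutator_mono (Subgroup.map_comap_le _ _) (Subgroup.map_comap_le _ _)
  intro h'
  apply h
  rw [eq_bot_iff]
  refine (key d).trans ?_
  rw [h', MonoidHom.comap_bot, (MonoidHom.ker_eq_bot_iff _).2 SemidirectProduct.inl_injective,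
    Subgroup.map_bot]

variable {F W : Type*} [Field F] [AddCommGroup W] [Module F W]

/-- The imprimitive representation of a wreath product. -/
def wrRep (ι : Type*) (ρ : H →* Module.End F W) : Wr ι H →* Module.End F (ι → W) where
  toFun x := LinearMap.pi fun i => ρ (x.left i) ∘ₗ LinearMap.proj (x.right⁻¹ i)
  map_one' := LinearMap.ext fun v => funext fun i => by simp
  map_mul' x y := LinearMap.ext fun v => funext fun i => by
    change ρ (x.left i * y.left (x.right⁻¹ i)) _ = _
    simp

theorem wrRep_apply (ρ : H →* Module.End F W) (x : Wr ι H) (v : ι → W) (i : ι) :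
    wrRep ι ρ x v i = ρ (x.left i) (v (x.right⁻¹ i)) := rfl

theorem wrRep_injective [Nontrivial W] {ρ : H →* Module.End F W} (hρ : Function.Injective ρ) :
    Function.Injective (wrRep ι ρ) := by
  classical
  rw [injective_iff_map_eq_one]
  intro x hx
  have h : ∀ (v : ι → W) i, ρ (x.left i) (v (x.right⁻¹ i)) = v i := fun v i =>
    congrFun (LinearMap.congr_fun hx v) i
  have h1 : ∀ i, x.right⁻¹ i = i := fun i => by
    by_contra hi
    obtain ⟨w, hw⟩ := exists_ne (0 : W)
    have := h (Pi.single i w) i
    rw [Pi.single_eq_of_ne hi, map_zero, Pi.single_eq_same] at this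
    exact hw this.symm
  refine SemidirectProduct.ext (funext fun i => hρ ?_) (inv_eq_one.1 (Equiv.ext h1))
  refine LinearMap.ext fun w => ?_
  simpa using h (fun _ => w) i

/-- The orthogonal sum of copies of a bilinear form. -/
def sumForm (ι : Type*) [Fintype ι] (B : LinearMap.BilinForm F W) :
    LinearMap.BilinForm F (ι → W) :=
  ∑ i, B.compl₁₂ (LinearMap.proj i) (LinearMap.proj i)

theorem sumForm_apply [Fintype ι] (B : LinearMap.BilinForm F W) (u v : ι → W) :
    sumForm ι B u v = ∑ i, B (u i) (v i) := by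
  simp [sumForm, LinearMap.sum_apply]

theorem sumForm_isAlt [Fintype ι] {B : LinearMap.BilinForm F W} (h : B.IsAlt) :
    (sumForm ι B).IsAlt := fun v => by
  rw [sumForm_apply]; exact Finset.sum_eq_zero fun i _ => h _

theorem sumForm_nondegenerate [Fintype ι] {B : LinearMap.BilinForm F W} (h : B.IsAlt)
    (hB : B.Nondegenerate) : (sumForm ι B).Nondegenerate := by
  classical
  refine (sumForm_isAlt h).isRefl.nondegenerate_iff_separatingLeft.2 fun x hx => funext fun i => ?_
  refine hB.1 _ fun y => ?_
  have := hx (Pi.single i y)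
  rwa [sumForm_apply, Finset.sum_eq_single i (fun j _ hj => by simp [Pi.single_eq_of_ne hj])
    (by simp), Pi.single_eq_same] at this

theorem sumForm_wrRep [Fintype ι] {B : LinearMap.BilinForm F W} {ρ : H →* Module.End F W}
    (h : ∀ g u v, B (ρ g u) (ρ g v) = B u v) (x : Wr ι H) (u v : ι → W) :
    sumForm ι B (wrRep ι ρ x u) (wrRep ι ρ x v) = sumForm ι B u v := by
  simp only [sumForm_apply, wrRep_apply, h]
  exact Equiv.sum_comp x.right⁻¹ fun i => B (u i) (v i)

end Wreath

section Lin
variable {F V V' : Type*} [Field F] [AddCommGroup V] [Module F V] [AddCommGroup V'] [Module F V']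
  {G G' : Type*} [Group G] [Group G']

theorem exists_embed_gl [FiniteDimensional F V] (ρ : G →* Module.End F V)
    (hρ : Function.Injective ρ) {n : ℕ} (hn : finrank F V = n) :
    ∃ φ : G →* GL (Fin n) F, Function.Injective φ := by
  let e := LinearMap.toMatrixAlgEquiv (Module.finBasisOfFinrankEq F V hn)
  exact ⟨(e.toMulEquiv.toMonoidHom.comp ρ).toHomUnits, fun _ _ h =>
    hρ (e.injective (congrArg Units.val h))⟩

/-- The direct sum of representations of two groups. -/
def prodRep (ρ : G →* Module.End F V) (ρ' : G' →* Module.End F V') :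
    G × G' →* Module.End F (V × V') :=
  (LinearMap.prodMapRingHom F V V').toMonoidHom.comp (ρ.prodMap ρ')

theorem prodRep_apply (ρ : G →* Module.End F V) (ρ' : G' →* Module.End F V') (g : G × G')
    (v : V × V') : prodRep ρ ρ' g v = (ρ g.1 v.1, ρ' g.2 v.2) := rfl

theorem prodRep_injective {ρ : G →* Module.End F V} {ρ' : G' →* Module.End F V'}
    (h : Function.Injective ρ) (h' : Function.Injective ρ') :
    Function.Injective (prodRep ρ ρ') := fun _ _ hg =>
  Prod.ext (h (LinearMap.ext fun v => congrArg Prod.fst (LinearMap.congr_fun hg (v, 0))))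
    (h' (LinearMap.ext fun v => congrArg Prod.snd (LinearMap.congr_fun hg (0, v))))

/-- The natural representation of a matrix group. -/
noncomputable def matRep (ι : Type*) [Fintype ι] [DecidableEq ι] (F : Type*) [Field F] :
    Matrix ι ι F →* Module.End F (ι → F) := Matrix.toLinAlgEquiv'.toMulEquiv.toMonoidHom

theorem matRep_injective (ι : Type*) [Fintype ι] [DecidableEq ι] :
    Function.Injective (matRep ι F) := Matrix.toLinAlgEquiv'.injective

/-- The natural representation of the symplectic group. -/
noncomputable def spRep (n : ℕ) (F : Type*) [Field F] :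
    Matrix.symplecticGroup (Fin n) F →* Module.End F (Fin n ⊕ Fin n → F) :=
  (matRep _ F).comp (Matrix.symplecticGroup (Fin n) F).subtype

theorem spRep_injective (n : ℕ) : Function.Injective (spRep n F) :=
  (matRep_injective _).comp Subtype.val_injective

theorem jBilin_spRep (n : ℕ) (g : Matrix.symplecticGroup (Fin n) F) (u v : Fin n ⊕ Fin n → F) :
    H27.jBilin (Fin n) F (spRep n F g u) (spRep n F g v) = H27.jBilin (Fin n) F u v :=
  (H27.spEquiv (Fin n) F g).2 u v

theorem exists_wr_sp (k : ℕ) {m : ℕ} (hm : 1 ≤ m) (φ : G →* Matrix.symplecticGroup (Fin m) F)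
    (hφ : Function.Injective φ) :
    ∃ ψ : Wr (Fin k) G →* Matrix.symplecticGroup (Fin (k * m)) F, Function.Injective ψ := by
  have : Nonempty (Fin m) := ⟨⟨0, hm⟩⟩
  refine exists_embed_sp (wrRep (Fin k) ((spRep m F).comp φ))
    (wrRep_injective ((spRep_injective m).comp hφ))
    (sumForm_nondegenerate H27.jBilin_isAlt H27.jBilin_nondegenerate)
    (sumForm_isAlt H27.jBilin_isAlt) ?_ (sumForm_wrRep fun g => jBilin_spRep m (φ g))
  simp [Module.finrank_pi_fintype]; ring

theorem exists_sp_sp {m n : ℕ} (h : m ≤ n) :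
    ∃ ψ : Matrix.symplecticGroup (Fin m) F →* Matrix.symplecticGroup (Fin n) F,
      Function.Injective ψ := by
  obtain ⟨l, rfl⟩ := Nat.exists_eq_add_of_le h
  let B : LinearMap.BilinForm F ((Fin m ⊕ Fin m → F) × (Fin l ⊕ Fin l → F)) :=
    (H27.jBilin (Fin m) F).compl₁₂ (LinearMap.fst _ _ _) (LinearMap.fst _ _ _) +
      (H27.jBilin (Fin l) F).compl₁₂ (LinearMap.snd _ _ _) (LinearMap.snd _ _ _)
  have hB : ∀ u v, B u v = H27.jBilin (Fin m) F u.1 v.1 + H27.jBilin (Fin l) F u.2 v.2 :=
    fun _ _ => rfl
  have hA : B.IsAlt := fun v => by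
    rw [hB, H27.jBilin_isAlt.self_eq_zero, H27.jBilin_isAlt.self_eq_zero, add_zero]
  obtain ⟨φ, hφ⟩ := exists_embed_sp (prodRep (spRep m F) (spRep l F))
    (prodRep_injective (spRep_injective m) (spRep_injective l)) (B := B)
    (hA.isRefl.nondegenerate_iff_separatingLeft.2 fun x hx => Prod.ext
      (H27.jBilin_nondegenerate.1 _ fun y => by simpa [hB] using hx (y, 0))
      (H27.jBilin_nondegenerate.1 _ fun y => by simpa [hB] using hx (0, y))) hA (m := m + l)
    (by simp; ring) fun g u v => by
      rw [hB, hB, prodRep_apply, prodRep_apply, jBilin_spRep, jBilin_spRep]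
  exact ⟨φ.comp (MonoidHom.inl _ _), hφ.comp fun _ _ h => congrArg Prod.fst h⟩

/-- The signs inside the units of a field. -/
def signUnits (F : Type*) [Field F] : ℤˣ →* Fˣ := Units.map (Int.castRingHom F).toMonoidHom

theorem signUnits_injective (h2 : (2 : F) ≠ 0) : Function.Injective (signUnits F) :=
  fun _ _ h => sign_cast_injective h2 (congrArg Units.val h)

/-- The representation of the units on the field itself. -/
def unitRep (F : Type*) [Field F] : Fˣ →* Module.End F F := DistribMulAction.toModuleEnd F F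

theorem unitRep_injective : Function.Injective (unitRep F) := fun a b h =>
  Units.ext (by simpa [unitRep, Units.smul_def] using LinearMap.congr_fun h 1)

theorem card_le_of_normal_elemAb [FiniteDimensional F V] (h2 : (2 : F) ≠ 0)
    (hneg : ¬ IsSquare (-1 : F)) (ρ : G →* Module.End F V) (hρ : Function.Injective ρ)
    (E : Subgroup G) [hE : E.Normal] [Finite E] (hE' : IsElementaryAbelian 2 E) {a e : F}
    (he : e = 1 ∨ e = -1) (ha : a * a = 2 * e) {J : Type*} (x : J → G) (hx8 : ∀ j, x j ^ 8 = 1)
    (hx : ∀ j v, ρ (x j) (ρ (x j) (ρ (x j) v)) =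
      (a + 1) • ρ (x j) (ρ (x j) v) - (a + e) • ρ (x j) v + e • v)
    (U : Submodule F V) (hU : finrank F U ≤ 1) (hU' : ∀ u, (∀ j, ρ (x j) u = u) → u ∈ U) {n : ℕ}
    (hn : finrank F V = n) : Nat.card E ≤ 2 ^ ((n + 1) / 2) := by
  classical
  have := hE'.1
  have he0 : e ≠ 0 := by rcases he with rfl | rfl <;> simp
  have ha0 : a ≠ 0 := by
    rintro rfl
    exact mul_ne_zero h2 he0 (by linear_combination -ha)
  obtain ⟨b, hb⟩ := exists_basis_eig' h2 (fun a : E => Subtype.ext (hE'.2 a.1 a.2))
    (ρ.comp E.subtype) hn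
  obtain ⟨ε, hε⟩ := exists_diagHom_eq b hb
  have hi : Function.Injective ε := fun a a' h => Subtype.ext (hρ (by
    change (ρ.comp E.subtype) a = (ρ.comp E.subtype) a'
    rw [← hε, ← hε, h]))
  have hεb : ∀ (g : E) i, ρ g (b i) = ((ε g i : ℤ) : F) • b i := fun g i => by
    rw [← diagHom_apply, hε]; rfl
  have hcoord : ∀ (g : E) i u, b.coord i (ρ g u) = ((ε g i : ℤ) : F) * b.coord i u := by
    intro g i u
    refine LinearMap.congr_fun (b.ext (f₁ := b.coord i ∘ₗ ρ g)
      (f₂ := ((ε g i : ℤ) : F) • b.coord i) fun j => ?_) u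
    by_cases h : j = i <;> simp [hεb, h, Finsupp.single_apply]
  let I : Finset (Fin n) := Finset.univ.filter fun i => ∀ j, (∀ g, ε g j = ε g i) → j = i
  have hI : ∀ i ∈ I, ∀ j, ρ (x j) (b i) = b i := by
    intro i hi' j
    have hi'' := (Finset.mem_filter.1 hi').2
    have key : ∀ t : G, (∃ c : F, ρ t (b i) = c • b i) ∨ b.coord i (ρ t (b i)) = 0 := by
      intro t
      have h1 : ∀ g : E, ρ g (ρ t (b i)) =
          ((ε ⟨t⁻¹ * g * t, hE.conj_mem' _ g.2 t⟩ i : ℤ) : F) • ρ t (b i) := fun g => by
        rw [← map_smul, ← hεb, ← Module.End.mul_apply, ← Module.End.mul_apply, ← map_mul,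
          ← map_mul]
        simp [mul_assoc]
      have h3 : ∀ k, b.coord k (ρ t (b i)) ≠ 0 →
          ∀ g : E, ε g k = ε ⟨t⁻¹ * g * t, hE.conj_mem' _ g.2 t⟩ i := fun k hk g => by
        have := hcoord g k (ρ t (b i))
        rw [h1, map_smul, smul_eq_mul] at this
        exact sign_cast_injective h2 (mul_right_cancel₀ hk this).symm
      refine or_iff_not_imp_right.2 fun h0 => ⟨b.coord i (ρ t (b i)), ?_⟩
      conv_lhs => rw [← b.sum_repr (ρ t (b i))]
      refine Finset.sum_eq_single i (fun k _ hk => ?_) (by simp)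
      by_contra hk0
      refine hk (hi'' k fun g => ?_)
      exact (h3 k (fun h => hk0 (by rw [show b.repr _ k = 0 from h, zero_smul])) g).trans
        (h3 i h0 g).symm
    have hbi : b.coord i (b i) = 1 := by simp
    have hrel := hx j (b i)
    rcases key (x j) with ⟨c, hc⟩ | h1
    · simp only [hc, map_smul, smul_smul] at hrel
      have h4 := congrArg (b.coord i) hrel
      simp only [map_add, map_sub, map_smul, hbi, smul_eq_mul, mul_one] at h4
      have h5 : (c - 1) * (c * c - a * c + e) = 0 := by linear_combination h4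
      rcases mul_eq_zero.1 h5 with h6 | h6
      · rw [hc, sub_eq_zero.1 h6, one_smul]
      · refine absurd ⟨(2 * c - a) / a, ?_⟩ hneg
        field_simp
        linear_combination (-4) * h6 - 2 * ha
    · exfalso
      rcases key (x j * x j) with ⟨c, hc⟩ | h2'
      · rw [map_mul, Module.End.mul_apply] at hc
        rw [hc, map_smul] at hrel
        have h4 := congrArg (b.coord i) hrel
        simp only [map_add, map_sub, map_smul, hbi, h1, smul_eq_mul, mul_one, mul_zero] at h4
        have h5 : (c + a + e) • ρ (x j) (b i) = ((a + 1) * c + e) • b i := by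
          linear_combination (norm := module) hrel
        have h6 : (a + 1) * c + e = 0 := by linear_combination -h4
        rw [h6, zero_smul, smul_eq_zero] at h5
        rcases h5 with h5 | h5
        · have h7 : a * (a + 1 + e) = 0 := by linear_combination (a + 1) * h5 - h6
          have h8 := (mul_eq_zero.1 h7).resolve_left ha0
          rcases he with rfl | rfl
          · exact h2 (by linear_combination ha - (a - 2) * h8)
          · exact ha0 (by linear_combination h8)
        · have : b i = 0 := by
            rw [← Module.End.one_apply (R := F) (b i), ← map_one ρ, ← inv_mul_cancel (x j), map_mul,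
              Module.End.mul_apply, h5, map_zero]
          exact b.ne_zero i this
      · rw [map_mul, Module.End.mul_apply] at h2'
        have h4 := congrArg (b.coord i) hrel
        simp only [map_add, map_sub, map_smul, hbi, h1, h2', smul_eq_mul, mul_one, mul_zero] at h4
        rcases key (x j * x j * x j) with ⟨c, hc⟩ | h3
        · have h5 : x j = x j * x j * x j * (x j * x j * x j) * (x j * x j * x j) := by
            calc x j = x j ^ 8 * x j := by rw [hx8, one_mul]
              _ = _ := by simp only [pow_succ, pow_zero, one_mul, mul_assoc]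
          have h6 : ρ (x j) (b i) = (c * c * c) • b i := by
            conv_lhs => rw [h5]
            rw [map_mul, map_mul, Module.End.mul_apply, Module.End.mul_apply, hc, map_smul, hc,
              map_smul, map_smul, hc, smul_smul, smul_smul]
          rw [h6, map_smul, hbi, smul_eq_mul, mul_one] at h1
          rw [map_mul, map_mul, Module.End.mul_apply, Module.End.mul_apply] at hc
          rw [hc, map_smul, hbi, smul_eq_mul, mul_one] at h4
          have hc0 : c = 0 := by simpa using h1
          exact he0 (by linear_combination hc0 - h4)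
        · rw [map_mul, map_mul, Module.End.mul_apply, Module.End.mul_apply] at h3
          exact he0 (by linear_combination h3 - h4)
  have hI1 : I.card ≤ 1 := by
    have hli : LinearIndependent F fun i : I => (⟨b i, hU' _ (hI i i.2)⟩ : U) :=
      LinearIndependent.of_comp U.subtype (b.linearIndependent.comp _ Subtype.val_injective)
    simpa using hli.fintype_card_le_finrank.trans hU
  refine (card_le_two_pow_card_image ε hi).trans (Nat.pow_le_pow_right (by norm_num) ?_)
  let f : Fin n → E → ℤˣ := fun i a => ε a i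
  have h1 : 2 * ((Finset.univ \ I).image f).card ≤ (Finset.univ \ I).card := by
    refine Finset.mul_card_image_le_card _ 2 fun χ hχ => ?_
    obtain ⟨i, hi', rfl⟩ := Finset.mem_image.1 hχ
    have hi2 : ¬ ∀ j, (∀ g, ε g j = ε g i) → j = i := by simpa [I] using hi'
    push Not at hi2
    obtain ⟨j, hj, hji⟩ := hi2
    refine (Finset.card_pair hji).ge.trans (Finset.card_le_card fun k hk => ?_)
    simp only [Finset.mem_insert, Finset.mem_singleton] at hk
    rcases hk with rfl | rfl
    · refine Finset.mem_filter.2 ⟨?_, funext hj⟩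
      simp only [I, Finset.mem_sdiff, Finset.mem_univ, Finset.mem_filter, true_and]
      exact fun h => hji (h i fun g => (hj g).symm).symm
    · exact Finset.mem_filter.2 ⟨hi', rfl⟩
  have h3 : (Finset.univ.image f).card ≤ ((Finset.univ \ I).image f).card + I.card := by
    rw [← Finset.sdiff_union_of_subset (Finset.subset_univ I), Finset.image_union]
    refine (Finset.card_union_le _ _).trans (add_le_add ?_ Finset.card_image_le)
    rw [Finset.sdiff_union_of_subset (Finset.subset_univ I)]
  have h4 := Finset.card_sdiff_add_card_eq_card (Finset.subset_univ I)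
  rw [Finset.card_univ, Fintype.card_fin] at h4
  change (Finset.univ.image f).card ≤ _
  omega

end Lin

end Cfsg.Agent.H79
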