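import Mathlib
import Cfsg.Agent.H17.KnDef2
import Cfsg.Agent.H67.Pi

/-!
# Project KN, piece CENB: the centraliser of the central involution modulo its core is the model
-/

set_option autoImplicit false
set_option maxRecDepth 100000

namespace Cfsg.Agent.H79.KnCenb

open Equiv Subgroup Cfsg.Agent.H63 Cfsg.Agent.H8.GD Cfsg.Agent.H17.Kn
open Cfsg.Agent.H11.A16 (P)
open Cfsg.Agent.H89.Rec (Syl)
open Cfsg.Agent.H67

universe u

theorem wt_aux : ∀ a b c d e f g h : ZMod 2,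
    cs false (ty ⟨1, ![a, b, c, d, e, f, g, h]⟩) = 1 →
    cs false (ty (⟨1, ![a, b, c, d, e, f, g, h]⟩ * z2)) = 4 →
    ∃ q, (⟨1, ![a, b, c, d, e, f, g, h]⟩ : N2) = dl q := by decide +kernel

theorem wt_one {u : N2} (hu : u ∈ PP) (h1 : cs false (ty u) = 1)
    (h2 : cs false (ty (u * z2)) = 4) : ∃ q, u = dl q := by
  have e : u = ⟨1, ![u.f 0, u.f 1, u.f 2, u.f 3, u.f 4, u.f 5, u.f 6, u.f 7]⟩ :=
    N2.ext hu (funext fun p => by fin_cases p <;> rfl)
  rw [e] at h1 h2 ⊢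
  exact wt_aux _ _ _ _ _ _ _ _ h1 h2

theorem dl_facts : (∀ p, dl p ∈ PP ∧ cs false (ty (dl p)) = 1 ∧ cs false (ty (dl p * z2)) = 4) ∧
    (∀ p q, dl p = dl q → p = q) ∧ z2 ∈ PP ∧ z2 ∈ EE := by decide +kernel

theorem sec_dl (σ : Perm P) (p : P) : sec2 σ * dl p * (sec2 σ)⁻¹ = dl (σ p) := by
  refine N2.ext (by simp [sec2, dl]) (funext fun r => ?_)
  simp only [N2.mul_f, N2.inv_f, N2.inv_σ, N2.mul_σ, sec2, dl, MonoidHom.mk'_apply, zero_add,
    add_zero]
  by_cases h : r = σ p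
  · subst h; simp
  · rw [if_neg h, if_neg]
    intro e; exact h (by rw [← e]; simp)

section

variable {G : Type u} [Group G] [Finite G]

/-- Burnside's normal complement in the ambient language. -/
theorem burn {Y D : Subgroup G} (h : Syl Y D)
    (hc : ∀ n ∈ D, n ∈ N[Y] → ∀ y ∈ Y, n * y = y * n) :
    ∃ O : Subgroup G, O ≤ D ∧ IsOdd O ∧ (∀ c ∈ D, Odd (orderOf c) → c ∈ O) ∧
      ∀ c ∈ D, ∃ o ∈ O, ∃ y ∈ Y, c = o * y := by
  have : Fact (Nat.Prime 2) := ⟨Nat.prime_two⟩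
  have hP : normalizer ((h.toSylow : Subgroup D) : Set D) ≤
      centralizer ((h.toSylow : Subgroup D) : Set D) := by
    intro n hn
    rw [h.coe_toSylow, ← subgroupOf_normalizer_eq h.le] at hn
    intro y hy
    exact Subtype.ext (hc n n.2 hn y hy).symm
  set K := (MonoidHom.transferSylow h.toSylow hP).ker with hK
  have hcomp := MonoidHom.ker_transferSylow_isComplement' h.toSylow hP
  have hnd := MonoidHom.not_dvd_card_ker_transferSylow h.toSylow hP
  refine ⟨K.map D.subtype, map_subtype_le _, ?_, fun c hc' ho => ?_, fun c hc' => ?_⟩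
  · refine (isPi_compl_singleton_iff Nat.prime_two).2 ?_
    rwa [card_map_of_injective D.subtype_injective]
  · refine ⟨⟨c, hc'⟩, ?_, rfl⟩
    change MonoidHom.transferSylow h.toSylow hP ⟨c, hc'⟩ = 1
    obtain ⟨k, hk⟩ := h.toSylow.2 (MonoidHom.transferSylow h.toSylow hP ⟨c, hc'⟩)
    have h1 : orderOf (MonoidHom.transferSylow h.toSylow hP ⟨c, hc'⟩) ∣ orderOf c := by
      rw [← Subgroup.orderOf_mk c hc']; exact orderOf_map_dvd _ _
    have h2 := orderOf_dvd_of_pow_eq_one hk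
    rw [← orderOf_eq_one_iff]
    exact Nat.eq_one_of_dvd_coprimes
      (Nat.Coprime.pow_right k ((Nat.coprime_two_right).2 ho)) h1 h2
  · obtain ⟨⟨o, y⟩, e⟩ := hcomp.2 ⟨c, hc'⟩
    exact ⟨o.1.1, ⟨o.1, o.2, rfl⟩, y.1.1, y.2, (congrArg Subtype.val e).symm⟩

theorem odd_of_mem {O : Subgroup G} (hO : IsOdd O) {o : G} (ho : o ∈ O) : Odd (orderOf o) := by
  have := (isPi_compl_singleton_iff Nat.prime_two).1 hO
  rw [← Nat.not_even_iff_odd, even_iff_two_dvd]
  exact fun h => this (h.trans (O.orderOf_dvd_natCard ho))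

end

theorem cenb (hB : Base.{u}) : CenbStmt.{u} := by
  intro G _ _ J φ s H ρ S hcl hN
  classical
  have gen : Gen G := hB.gen
  obtain ⟨-, -, -, -, -, -, -, -, -, -, hPJ, hJS, -⟩ := hB.m2.le
  have hPS : PP ≤ S2 := hPJ.trans hJS
  have hEP : EE ≤ PP := inf_le_left
  obtain ⟨hdl, hdi, zP, zE⟩ := dl_facts
  obtain ⟨abP, -, -, sqP, -, -, abz⟩ := hB.m2.ab
  have em := S.em2
  have emP := em.mono hPS
  have emE := emP.mono hEP
  have mo := S.mo
  set C := C1[J z2] with hC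
  set O := Oc C with hO
  have memC : ∀ {g : G}, g ∈ C ↔ g * J z2 = J z2 * g := mem_centralizer_singleton_iff
  have hOC : O ≤ C := piCoreOf_le _ _
  have hCO : C ≤ N[O] := le_normalizer_piCoreOf_self _ _
  have hOo : IsOdd O := isPi_piCoreOf _ _
  -- `H ≤ C`
  have hHC : H ≤ C := fun g hg => by
    obtain ⟨m, hm⟩ := (S.hP g).1 hg
    have := hm z2 zP
    rw [R, (abz m).eq, mul_inv_cancel_right] at this
    exact memC.2 (mul_inv_eq_iff_eq_mul.1 this)
  have hDC : C[im J EE] ≤ C := fun g hg => memC.2 (hg _ (mem_im zE)).symm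
  -- the normaliser of `P` in `C`
  have nH : ∀ n ∈ C, n ∈ N[im J PP] → n ∈ H := fun n hn hnP => by
    obtain ⟨α, ha, hα⟩ := emP.au hnP
    have hz : R J n z2 z2 := mul_inv_eq_iff_eq_mul.2 (memC.1 hn)
    have az : α z2 = z2 := emP.inj _ (ha.mem _ zP) _ zP (Eq.trans (Eq.symm (hα z2 zP)) hz)
    have k : ∀ p, ∃ q, α (dl p) = dl q := fun p => by
      have h0 := (hdl p).1
      have h1 := ha.mem _ h0
      have h2 := mul_mem h0 zP
      refine wt_one h1 ?_ ?_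
      · rw [← (hcl _ (hPS h0) _ (hPS h1) (sqP _ h0) (sqP _ h1)).1 ⟨n, hα _ h0⟩, (hdl p).2.1]
      · have h3 := ha.mem _ h2
        have := (hcl _ (hPS h2) _ (hPS h3) (sqP _ h2) (sqP _ h3)).1 ⟨n, hα _ h2⟩
        rw [ha.mul _ h0 _ zP, az] at this
        rw [← this, (hdl p).2.2]
    choose σ hσ using k
    have hi : Function.Injective σ := fun p q e =>
      hdi p q (ha.inj _ (hdl p).1 _ (hdl q).1 (by rw [hσ, hσ, e]))
    let τ : Perm P := Equiv.ofBijective σ (Finite.injective_iff_bijective.1 hi)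
    refine (S.hP n).2 ⟨sec2 τ, ?_⟩
    have nrm := (hB.m2.nrm (sec2 τ)).1
    let K : Subgroup N2 :=
      { carrier := {u | u ∈ PP ∧ R J n u (sec2 τ * u * (sec2 τ)⁻¹)}
        one_mem' := ⟨one_mem _, by simp [R, emP.one]⟩
        mul_mem' := fun {a b} ha hb => ⟨mul_mem ha.1 hb.1, by
          have e : sec2 τ * (a * b) * (sec2 τ)⁻¹ =
              (sec2 τ * a * (sec2 τ)⁻¹) * (sec2 τ * b * (sec2 τ)⁻¹) := by group
          rw [R, e, emP.mul _ (nrm _ ha.1) _ (nrm _ hb.1), emP.mul _ ha.1 _ hb.1, ← ha.2, ← hb.2]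
          group⟩
        inv_mem' := fun {a} ha => ⟨inv_mem ha.1, by
          have e : sec2 τ * a⁻¹ * (sec2 τ)⁻¹ = (sec2 τ * a * (sec2 τ)⁻¹)⁻¹ := by group
          rw [R, e, emP.inv (nrm _ ha.1), emP.inv ha.1, ← ha.2]
          group⟩ }
    have hK : PP ≤ K := hB.m2.gPP K fun p => ⟨(hdl p).1, by
      rw [sec_dl]
      have := hα _ (hdl p).1
      rwa [hσ] at this⟩
    exact fun u hu => (hK hu).2
  -- `ρ` on `H`
  have ρ1 : ρ 1 = 1 := by
    have := mo.mul 1 (one_mem _) 1 (one_mem _)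
    rw [mul_one] at this
    exact left_eq_mul.1 this
  have ρi : ∀ g ∈ H, ρ g⁻¹ = (ρ g)⁻¹ := fun g hg =>
    eq_inv_of_mul_eq_one_left (by rw [← mo.mul _ (inv_mem hg) _ hg, inv_mul_cancel, ρ1])
  have ρp : ∀ g ∈ H, ∀ k : ℕ, ρ (g ^ k) = ρ g ^ k := fun g hg k => by
    induction k with
    | zero => simpa using ρ1
    | succ k ih => rw [pow_succ, pow_succ, mo.mul _ (pow_mem hg k) _ hg, ih]
  have ρx : ∀ g ∈ H, Ex J g (ρ g) PP := fun g hg u hu => by
    obtain ⟨m, hm⟩ := (S.hP g).1 hg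
    have h1 := congrArg ρ (hm u hu)
    have h2 := mo.le u (hPS hu)
    rw [mo.res _ (hPS ((hB.m2.nrm m).1 u hu)), mo.mul _ (mul_mem hg h2) _ (inv_mem hg),
      mo.mul _ hg _ h2, ρi g hg, mo.res u (hPS hu)] at h1
    rw [h1]; exact hm u hu
  have cE : ∀ g ∈ H, (∀ e ∈ EE, g * J e = J e * g) → ρ g ∈ PP := fun g hg hc =>
    hB.m3.cEE _ fun e he => by
      have h1 := ρx g hg e (hEP he)
      rw [R, hc e he, mul_inv_cancel_right] at h1
      have := emP.inj _ (hEP he) _ ((hB.m2.nrm _).1 e (hEP he)) h1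
      exact mul_inv_eq_iff_eq_mul.1 this.symm
  have cP : ∀ g ∈ H, ρ g ∈ PP → ∀ y ∈ im J PP, g * y = y * g := fun g hg hp y hy => by
    obtain ⟨u, hu, rfl⟩ := emP.mem.1 hy
    have h1 := ρx g hg u hu
    rw [R, (abP _ hp _ hu).eq, mul_inv_cancel_right] at h1
    exact mul_inv_eq_iff_eq_mul.1 h1
  -- the normal complement in `C(E)`
  obtain ⟨O2, h2D, h2o, h2m, h2d⟩ := burn S.sylP fun n hn hnP =>
    cP n (nH n (hDC hn) hnP) (cE n (nH n (hDC hn) hnP) fun e he => (hn _ (mem_im he)).symm)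
  have hEC : im J EE ≤ C := im_le fun u hu => hHC (mo.le u (hPS (hEP hu)))
  have fr : ∀ g ∈ C, ∃ o ∈ O, o * g ∈ N[im J EE] := fun g hg =>
    gen.frO _ O g (emE.two (hB.m1.two.to_le (hEP.trans hPS))) (fun o ho => odd_of_mem hOo ho)
      (hEC.trans hCO) fun y hy => by
        obtain ⟨a, ha, b, hb, e⟩ := (mem_sup_of_le_normalizer (hEC.trans hCO)).1
          (conj_mem_of_mem_normalizer (hN hg) (mem_sup_left hy))
        exact ⟨a, ha, b, hb, e.symm⟩
  have n2 : ∀ g ∈ N[im J EE], g ∈ N[O2] := fun g hg => by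
    refine mem_normalizer_fintype fun o ho => h2m _
      (conj_mem_of_mem_normalizer (normalizer_le_normalizer_centralizer _ hg) (h2D ho)) ?_
    rw [show g * o * g⁻¹ = MulAut.conj g o from rfl, MulEquiv.orderOf_eq]
    exact odd_of_mem h2o ho
  have h2O : O2 ≤ O := by
    refine le_sup_left.trans (le_piCoreOf (N := O2 ⊔ O) ⟨sup_le (h2D.trans hDC) hOC, ?_⟩
      (isPi_sup h2o hOo (Or.inl ((h2D.trans hDC).trans hCO))))
    intro g hg
    obtain ⟨o, ho, hog⟩ := fr g hg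
    have h1 : o * g ∈ N[O2 ⊔ O] := normalizer_inf_normalizer_le_normalizer_sup O2 O
      ⟨n2 _ hog, hCO (mul_mem (hOC ho) hg)⟩
    have h2 : o ∈ N[O2 ⊔ O] := le_normalizer (mem_sup_right ho)
    simpa using mul_mem (inv_mem h2) h1
  have dec : ∀ g ∈ C, ∃ o h, o ∈ O ∧ h ∈ H ∧ g = o * h := fun g hg => by
    obtain ⟨o, ho, hog⟩ := fr g hg
    obtain ⟨k, hk, hn⟩ := gen.frat _ _ _ S.sylP (normalizer_le_normalizer_centralizer _ hog)
    have hnH := nH _ (mul_mem (hDC hk) (mul_mem (hOC ho) hg)) hn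
    obtain ⟨o2, ho2, y, hy, e⟩ := h2d _ (inv_mem hk)
    have hyH : y ∈ H := im_le (fun u hu => mo.le u (hPS hu)) hy
    refine ⟨o⁻¹ * o2, y * (k * (o * g)), mul_mem (inv_mem ho) (h2O ho2), mul_mem hyH hnH, ?_⟩
    rw [mul_assoc, ← mul_assoc o2, ← e]; group
  have ker : ∀ h ∈ H, ρ h = 1 ↔ h ∈ O := fun h hh => by
    constructor
    · intro e
      refine h2O (h2m h (fun y hy => ?_) (mo.ker h hh e))
      exact (cP h hh (by rw [e]; exact one_mem _) y (im_mono hEP hy)).symm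
    · intro ho
      have hp : ρ h ∈ PP := cE h hh fun e he => by
        have h1 : h * J e * h⁻¹ * (J e)⁻¹ ∈ im J PP := by
          rw [ρx h hh e (hEP he)]
          exact mul_mem (mem_im ((hB.m2.nrm _).1 e (hEP he))) (inv_mem (mem_im (hEP he)))
        have h2 : h * J e * h⁻¹ * (J e)⁻¹ ∈ O := by
          rw [mul_assoc, mul_assoc, ← mul_assoc (J e)]
          exact mul_mem ho (conj_mem_of_mem_normalizer (hCO (hEC (mem_im he))) (inv_mem ho))
        have := gen.one _ _ S.sylP.grp h1 (odd_of_mem hOo h2)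
        rwa [mul_inv_eq_one, mul_inv_eq_iff_eq_mul] at this
      obtain ⟨k, hk⟩ := odd_of_mem hOo ho
      have h3 := ρp h hh (orderOf h)
      rw [pow_orderOf_eq_one, ρ1, hk, pow_succ, pow_mul, pow_two, sqP _ hp, one_pow,
        one_mul] at h3
      exact h3.symm
  choose! fo fh hfo hfh hf using dec
  have key : ∀ o ∈ O, ∀ h ∈ H, ρ (fh (o * h)) = ρ h := fun o ho h hh => by
    have hg := mul_mem (hOC ho) (hHC hh)
    have h1 : fh (o * h) * h⁻¹ = (fo (o * h))⁻¹ * o := by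
      rw [eq_inv_mul_iff_mul_eq, ← mul_assoc, ← hf _ hg]; group
    have h2 := (ker _ (mul_mem (hfh _ hg) (inv_mem hh))).2
      (by rw [h1]; exact mul_mem (inv_mem (hfo _ hg)) ho)
    rwa [mo.mul _ (hfh _ hg) _ (inv_mem hh), ρi h hh, mul_inv_eq_one] at h2
  have keyH : ∀ h ∈ H, ρ (fh h) = ρ h := fun h hh => by
    simpa using key 1 (one_mem _) h hh
  have kk : ∀ g ∈ C, ρ (fh g) = 1 ↔ g ∈ O := fun g hg => by
    rw [ker _ (hfh g hg)]
    conv_rhs => rw [hf g hg]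
    exact (mul_mem_cancel_left (hfo g hg)).symm
  refine ⟨fun g => ρ (fh g), ⟨fun g hg g' hg' => ?_, fun u hu => hHC (mo.le u hu),
    fun u hu => by rw [keyH _ (mo.le u hu), mo.res u hu], fun m => ?_,
    fun g hg e => odd_of_mem hOo ((kk g hg).1 e)⟩, kk⟩
  · have e : g * g' = (fo g * (fh g * fo g' * (fh g)⁻¹)) * (fh g * fh g') := by
      conv_lhs => rw [hf g hg, hf g' hg']
      group
    rw [e, key _ (mul_mem (hfo g hg) (conj_mem_of_mem_normalizer (hCO (hHC (hfh g hg)))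
      (hfo g' hg'))) _ (mul_mem (hfh g hg) (hfh g' hg')), mo.mul _ (hfh g hg) _ (hfh g' hg')]
  · obtain ⟨g, hg, e⟩ := mo.sur m
    exact ⟨g, hHC hg, by rw [keyH g hg, e]⟩

end Cfsg.Agent.H79.KnCenb
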