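import Mathlib
import Cfsg.Agent.H24.AbgKQ

/-!
# The centralizer of an involution in `L₃(q)` and `U₃(q)`, with its index
-/

set_option autoImplicit false

namespace Cfsg.Agent.H79.TT

open Subgroup Cfsg.Agent.H24.KQ Cfsg.Agent.H9.GW
open scoped MatrixGroups commutatorElement

/-- `C(z)` has an image of `SL₂(q)` containing its derived group, and index `i`. -/
def St {X : Type*} [Group X] (z : X) (q i : ℕ) : Prop :=
  ∃ (K : Type) (_ : Field K) (_ : Fintype K), Fintype.card K = q ∧ ∃ J : SL(2, K) →* X,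
    J.range ≤ Cz z ∧ ⁅Cz z, Cz z⁆ ≤ J.range ∧ (Cz z).index = i

theorem mainS {X Γ H : Type*} [Group X] [Group Γ] [Group H] [Finite X] [Finite Γ] {K : Type}
    [Field K] [Fintype K] {q i : ℕ} (hK : Fintype.card K = q) (ψ : H →* Γ) (hψ : Function.Injective ψ)
    (hZ : Odd (Nat.card (center Γ))) {t : Γ} (hC : centralizer {t} = ψ.range)
    (hone : ∀ T : Γ, T * T = 1 → T ≠ 1 → ∃ g, g * T * g⁻¹ = t) (j : SL(2, K) →* H)
    (hj' : commutator H ≤ j.range)
    (hk : i * Nat.card H = Nat.card Γ) (e : X ≃* Γ ⧸ center Γ) {z : X}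
    (hz : orderOf z = 2) : St z q i := by
  let π : Γ →* X := e.symm.toMonoidHom.comp (QuotientGroup.mk' _)
  have hπ : Function.Surjective π := e.symm.surjective.comp (QuotientGroup.mk'_surjective _)
  have hker : ∀ x, π x = 1 ↔ x ∈ center Γ := fun x => by
    change e.symm (x : Γ ⧸ center Γ) = 1 ↔ _
    rw [map_eq_one_iff _ e.symm.injective, QuotientGroup.eq_one_iff]
  have hodd : ∀ c ∈ center Γ, c * c = 1 → c = 1 := fun c hc h2 =>
    H95.ABG.eq_one_of_odd_of_sq (hZ.of_dvd_nat (orderOf_dvd_natCard _ hc)) h2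
  have hzz := H95.ABG.mul_self_of_two hz
  obtain ⟨T, hT, hTT⟩ : ∃ T, π T = z ∧ T * T = 1 := by
    obtain ⟨T, hT⟩ := hπ z
    have h1 : T ^ 2 ∈ center Γ := (hker _).1 (by rw [sq, map_mul, hT, hzz])
    obtain ⟨m, hm⟩ := hZ
    refine ⟨T ^ (2 * m + 1), ?_, ?_⟩
    · rw [map_pow, hT, pow_succ, pow_mul, sq, hzz, one_pow, one_mul]
    · rw [← sq, ← pow_mul, mul_comm, pow_mul, ← hm]
      exact orderOf_dvd_iff_pow_eq_one.1 (orderOf_dvd_natCard _ h1)
  obtain ⟨g, hg⟩ := hone T hTT fun e => H95.ABG.ne_one_of_two hz (by rw [← hT, e, map_one])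
  let ψ' : H →* Γ := (MulAut.conj g⁻¹).toMonoidHom.comp ψ
  have hψ' : Function.Injective ψ' := (MulAut.conj g⁻¹).injective.comp hψ
  have hC' : centralizer {T} = ψ'.range := by
    ext x
    have h1 : g * x * g⁻¹ ∈ ψ.range ↔ x * T = T * x := by
      rw [← hC, mem_centralizer_singleton_iff, ← hg]
      constructor
      · intro h
        calc x * T = g⁻¹ * (g * x * g⁻¹ * (g * T * g⁻¹)) * g := by group
          _ = T * x := by rw [h]; group
      · intro h
        calc g * x * g⁻¹ * (g * T * g⁻¹) = g * (x * T) * g⁻¹ := by group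
          _ = _ := by rw [h]; group
    rw [mem_centralizer_singleton_iff, ← h1]
    refine exists_congr fun y => ?_
    change _ ↔ g⁻¹ * ψ y * g⁻¹⁻¹ = x
    constructor
    · intro h; rw [h]; group
    · intro h; rw [← h]; group
  have hCz : Cz z = (centralizer {T}).map π := by
    ext x
    constructor
    · intro hx
      obtain ⟨y, rfl⟩ := hπ x
      refine ⟨y, mem_centralizer_singleton_iff.2 ?_, rfl⟩
      have h1 : T⁻¹ * (y⁻¹ * T * y) ∈ center Γ := (hker _).1 (by
        simp only [map_mul, map_inv, hT]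
        rw [mul_assoc _ z, ← mem_centralizer_singleton_iff.1 hx]
        group)
      obtain ⟨c, hc⟩ : ∃ c, c = T⁻¹ * (y⁻¹ * T * y) := ⟨_, rfl⟩
      rw [← hc] at h1
      have h2 : y⁻¹ * T * y = T * c := by rw [hc]; group
      have h3 : c = 1 := hodd c h1 (by
        calc c * c = T * T * c * c := by rw [hTT, one_mul]
          _ = T * c * (T * c) := by
            rw [← mul_assoc (T * c), mul_assoc T c T, ← mem_center_iff.1 h1 T, mul_assoc T T c]
          _ = y⁻¹ * (T * T) * y := by rw [← h2]; group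
          _ = 1 := by rw [hTT]; group)
      rw [h3, mul_one] at h2
      calc y * T = y * (y⁻¹ * T * y) := by rw [h2]
        _ = T * y := by group
    · rintro ⟨y, hy, rfl⟩
      rw [mem_centralizer_singleton_iff, ← hT, ← map_mul, ← map_mul,
        mem_centralizer_singleton_iff.1 hy]
  have hr : Cz z = (π.comp ψ').range := by
    rw [hCz, hC', MonoidHom.range_comp π ψ']
  refine ⟨K, inferInstance, inferInstance, hK, (π.comp ψ').comp j, ?_, ?_, ?_⟩
  · rw [hr, MonoidHom.range_comp (π.comp ψ') j]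
    exact map_le_range _ _
  · rw [hr, MonoidHom.range_comp (π.comp ψ') j, MonoidHom.range_eq_map (π.comp ψ'), ← map_commutator]
    exact map_mono hj'
  have hi : (Cz z).index = ψ'.range.index := by
    rw [hCz, index_map, MonoidHom.range_eq_top.2 hπ, index_top, mul_one, ← hC', sup_eq_left.2]
    intro x hx
    exact mem_centralizer_singleton_iff.2 (mem_center_iff.1 ((hker x).1 hx) T).symm
  rw [hi]
  have h1 := card_mul_index ψ'.range
  rw [← Nat.card_congr (MonoidHom.ofInjective hψ').toEquiv] at h1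
  rw [← h1, mul_comm] at hk
  have : Finite H := Finite.of_injective ψ hψ
  exact (Nat.eq_of_mul_eq_mul_left Nat.card_pos hk).symm

theorem linearS {X : Type*} [Group X] [Finite X] {F : Type} [Field F] [Fintype F]
    (hF : Odd (Fintype.card F)) (e : X ≃* Matrix.ProjectiveSpecialLinearGroup (Fin 3) F) {z : X}
    (hz : orderOf z = 2) :
    St z (Fintype.card F) (Fintype.card F ^ 2 * (Fintype.card F ^ 2 + Fintype.card F + 1)) := by
  have hne := H32.neg_one_ne_one_of_odd hF
  refine mainS (K := F) rfl (H32.blkSL F 2) H32.blkSL_injective ?_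
    (H32.centralizer_eq_range_blkSL hne coe_t) (fun T h1 h2 => ?_)
    Matrix.SpecialLinearGroup.toGL ?_ ?_ e hz
  · rw [H26.card_center_sl, Fintype.card_fin]
    exact odd_gcd _
  · obtain ⟨g, hg⟩ := S1219.exists_conj hne h1 h2
    exact ⟨g, Subtype.ext (hg.trans coe_t.symm)⟩
  · rw [H26.range_toGL_eq_ker_det]
    exact commutator_le_ker _
  · rw [H97.card_sl_three, Nat.card_eq_fintype_card (α := F)]

open Cfsg.Agent.H31 Cfsg.Agent.H14.U3 in
theorem unitaryS {X : Type*} [Group X] [Finite X] {F : Type} [Field F] [Fintype F] {r : ℕ}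
    (hF : Fintype.card F = r ^ 2) (hr : Odd r) (e : X ≃* PSU 3 F r) {z : X}
    (hz : orderOf z = 2) : St z r (r ^ 2 * (r * (r - 1) + 1)) := by
  have h2 := two_ne_zero_of_odd hF hr
  have hne : (-1 : F) ≠ 1 := fun e => h2 (by linear_combination -e)
  have hr2 := two_le_of_card_sq hF
  have hmem : ∀ A : GL (Fin 2) F, H32.blkSL F 2 A ∈ SU 3 F r ↔ A ∈ GU 2 F r := fun A => by
    have key : ∀ u v : Fin 3 → F, hermForm 3 F r ((H32.blkSL F 2 A).1.mulVec u)
        ((H32.blkSL F 2 A).1.mulVec v) = hermForm 2 F r (A.1.mulVec ![u 0, u 1])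
          (A.1.mulVec ![v 0, v 1]) + A.1.det⁻¹ * frobQ hF A.1.det⁻¹ * (u 2 * frobQ hF (v 2)) := by
      intro u v
      obtain ⟨M, hM⟩ : ∃ M : Matrix (Fin 3) (Fin 3) F, M = (H32.blkSL F 2 A).1 := ⟨_, rfl⟩
      change hermForm 3 F r (Matrix.mulVec (m := Fin 3) (n := Fin 3) (H32.blkSL F 2 A).1 u)
        (Matrix.mulVec (m := Fin 3) (n := Fin 3) (H32.blkSL F 2 A).1 v) = _
      rw [← hM]
      rw [H32.blkSL_coe, blk1_eq] at hM
      rw [hM]
      simp only [hermForm, Fin.sum_univ_three, Fin.sum_univ_two,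
        ← frobQ_apply hF, Matrix.mulVec, dotProduct, Matrix.of_apply, Matrix.cons_val',
        Matrix.cons_val_zero, Matrix.cons_val_one, Matrix.cons_val_fin_one, Matrix.cons_val_two,
        map_add, map_mul, Matrix.head_cons, Matrix.tail_cons, Matrix.head_fin_const, map_zero]
      ring
    constructor
    · intro hA u v
      have h1 := key ![u 0, u 1, 0] ![v 0, v 1, 0]
      have h3 := hA ![u 0, u 1, 0] ![v 0, v 1, 0]
      change hermForm 3 F r ((H32.blkSL F 2 A).1.mulVec _) ((H32.blkSL F 2 A).1.mulVec _) = _ at h3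
      rw [h3] at h1
      have e1 : (![u 0, u 1] : Fin 2 → F) = u := by ext i; fin_cases i <;> rfl
      have e2 : (![v 0, v 1] : Fin 2 → F) = v := by ext i; fin_cases i <;> rfl
      simp only [Matrix.cons_val_zero, Matrix.cons_val_one, Matrix.cons_val_two, Matrix.head_cons,
        Matrix.tail_cons, zero_mul, mul_zero, add_zero, e1, e2] at h1
      change hermForm 2 F r (A.1.mulVec u) (A.1.mulVec v) = _
      rw [← h1]
      simp [hermForm, Fin.sum_univ_three, Fin.sum_univ_two]
    · intro hA u v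
      have h1 := (isHerm_hermB hF 2).det_norm ((mem_GU_iff hF).2 hA)
      rw [← LinearEquiv.coe_det, det_glEquiv, Matrix.GeneralLinearGroup.val_det_apply] at h1
      have h3 : A.1.det⁻¹ * frobQ hF A.1.det⁻¹ = 1 := by
        rw [map_inv₀, ← mul_inv, h1, inv_one]
      have h4 := hA ![u 0, u 1] ![v 0, v 1]
      change hermForm 3 F r ((H32.blkSL F 2 A).1.mulVec u) ((H32.blkSL F 2 A).1.mulVec v) = _
      change hermForm 2 F r (A.1.mulVec _) (A.1.mulVec _) = _ at h4
      rw [key, h3, h4]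
      simp [hermForm, Fin.sum_univ_three, Fin.sum_univ_two]
  let ψ : GU 2 F r →* SU 3 F r :=
    ((H32.blkSL F 2).comp (GU 2 F r).subtype).codRestrict _ fun A => (hmem _).2 A.2
  have hm1 : (-1 : GL (Fin 2) F) ∈ GU 2 F r := fun u v => by
    simp [hermForm, Matrix.neg_mulVec, hr.neg_pow]
  let t : SU 3 F r := ψ ⟨-1, hm1⟩
  have ht : (t : SL(3, F)) = H32.blkSL F 2 (-1) := rfl
  have htt : t * t = 1 := by
    rw [← map_mul]
    have : (⟨-1, hm1⟩ * ⟨-1, hm1⟩ : GU 2 F r) = 1 := Subtype.ext (by simp)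
    rw [this, map_one]
  have hψ : Function.Injective ψ := fun A B e =>
    Subtype.ext (H32.blkSL_injective (congrArg Subtype.val e))
  have ht1 : t ≠ 1 := fun e => by
    have h1 := congrArg Subtype.val (hψ (e.trans (map_one ψ).symm))
    have h3 := congrArg (fun A : GL (Fin 2) F => A.1 0 0) h1
    simp at h3
    exact hne h3
  let σ := frobQ hF
  have hσ : IsInvol σ := isInvol_frobQ hF
  obtain ⟨ω, h0, hω⟩ := hσ.exists_skew
  obtain ⟨e2⟩ := U2.nonempty_equiv_GU (h := hσ) hF fun _ => rfl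
  have hcard : Nat.card (fixedField σ) = r := card_fixed hF fun _ => rfl
  have hι : ∀ x, σ ((fixedField σ).subtype x) = (fixedField σ).subtype x := fun x => x.2
  have := Fintype.ofFinite (fixedField σ)
  refine mainS (K := fixedField σ) (by rwa [← Nat.card_eq_fintype_card]) ψ hψ ?_ (t := t) ?_
    (fun T h1 h3 => ?_) (e2.toMonoidHom.comp (H95.ABG.kap hσ hι h0 hω)) ?_ ?_ e hz
  · rw [card_center_SU hF (by omega)]
    exact odd_gcd _
  · ext x
    have h1 := H32.centralizer_eq_range_blkSL hne (ht ▸ coe_t : (t : SL(3, F)).1 = _)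
    have h3 : x ∈ centralizer {t} ↔ (x : SL(3, F)) ∈ centralizer {(t : SL(3, F))} := by
      rw [mem_centralizer_singleton_iff, mem_centralizer_singleton_iff, Subtype.ext_iff]
      rfl
    rw [h3, h1]
    constructor
    · rintro ⟨A, hA⟩
      exact ⟨⟨A, (hmem A).1 (hA ▸ x.2)⟩, Subtype.ext hA⟩
    · rintro ⟨A, hA⟩
      exact ⟨A, congrArg Subtype.val hA⟩
  · have hB := isHerm_hermB hF 3
    have h4 := finrank_fin (F := F) 3
    obtain ⟨P, hP, rfl⟩ := exists_rf (suEquiv hF 3) hB h4 h2 h3 h1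
    obtain ⟨Q, hQ, hQ'⟩ := exists_rf (suEquiv hF 3) hB h4 h2 ht1 htt
    have h5 := hB.orbit_non (mem_nonPts.1 hP).2
    rw [← h5] at hQ
    obtain ⟨g, hg⟩ := hQ
    refine ⟨(suEquiv hF 3).symm g, ?_⟩
    rw [rf_conj (suEquiv hF 3) hB h4 hP, MulEquiv.apply_symm_apply, ← hQ', ← hg]
    congr 1
    change _ = g.1 • Projectivization.mk F P.rep _
    rw [Projectivization.mk_rep]
  · rw [MonoidHom.range_comp, H95.ABG.range_kap hσ hι h0 hω fun y hy => ⟨⟨y, hy⟩, rfl⟩]
    have h1 : commutator (GU 2 F r) = (commutator (U2 hσ)).map e2.toMonoidHom := by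
      rw [map_commutator_eq, MonoidHom.range_eq_top.2 e2.surjective, _root_.commutator_def]
    rw [h1]
    exact map_mono (commutator_le_ker _)
  · refine Nat.eq_of_mul_eq_mul_left (show 0 < r + 1 by omega) ?_
    rw [card_SU hF 3 (by omega), card_GU hF]
    simp only [ordGU, Finset.prod_range_succ, Finset.prod_range_zero]
    norm_num
    zify [(by omega : 1 ≤ r), Nat.one_le_pow 2 _ (by omega : 0 < r)]
    ring

end Cfsg.Agent.H79.TT
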