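import Mathlib
import Cfsg.Agent.H50.E72Defs
import Cfsg.Agent.S5529

/-! Project E72: three linear algebra lemmas. -/

set_option autoImplicit false

namespace Cfsg.Agent.H79.E72Lin

open Module Cfsg.Agent.H50.E72
open scoped Matrix

section

variable {n : Type} [Fintype n] [DecidableEq n] (π : G0 →* Matrix n n (ZMod 2))

theorem act_mul (g h : G0) (v : n → K) : act π (g * h) v = act π g (act π h v) := by
  rw [map_mul, Module.End.mul_apply]

theorem act_inv (g : G0) (v : n → K) : act π g⁻¹ (act π g v) = v := by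
  rw [← act_mul, inv_mul_cancel, map_one, Module.End.one_apply]

theorem ker_eq (g : G0) : LinearMap.ker (1 - act π g) = eig π g 1 := by
  ext v
  rw [LinearMap.mem_ker, mem_eig, one_smul, LinearMap.sub_apply, Module.End.one_apply,
    sub_eq_zero, eq_comm]

theorem eig_inv (g : G0) : eig π g⁻¹ 1 = eig π g 1 := by
  ext v
  rw [mem_eig, mem_eig, one_smul]
  constructor
  · intro h
    have := act_inv π g⁻¹ v
    rwa [inv_inv, h] at this
  · intro h
    have := act_inv π g v
    rwa [h] at this

end

theorem div3 : Div3Stmt := by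
  intro n _ _ π a b W ω hω ha hb hW
  let A : W →ₗ[K] W := (act π a).restrict ha
  let B : W →ₗ[K] W := (act π b).restrict hb
  have det_ne : ∀ (g : G0) (hg : Inv π g W), LinearMap.det ((act π g).restrict hg) ≠ 0 :=
    fun g hg h => by
      refine (LinearMap.det_eq_zero_iff_ker_ne_bot.1 h) (LinearMap.ker_eq_bot'.2 fun v hv => ?_)
      have h1 : act π g v = 0 := congrArg Subtype.val hv
      have := act_inv π g v
      rw [h1, map_zero] at this
      exact Subtype.ext this.symm
  have h : A * B = ω • (B * A) := by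
    ext1 v
    apply Subtype.ext
    have h1 := (mem_eig π).1 (hW (hb _ (ha _ v.2)))
    rw [act_mul, act_mul, act_mul, act_inv, act_inv] at h1
    exact h1
  have hd := congrArg LinearMap.det h
  rw [LinearMap.det_smul, map_mul, map_mul, mul_comm (LinearMap.det B)] at hd
  have hne : LinearMap.det A * LinearMap.det B ≠ 0 := mul_ne_zero (det_ne a ha) (det_ne b hb)
  exact hω.dvd_of_pow_eq_one _ ((mul_eq_right₀ hne).1 hd.symm)

theorem desc : DescStmt := by
  intro n _ _ π S ⟨v, hv, hS⟩
  obtain ⟨i, hi⟩ := Function.ne_iff.1 hv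
  obtain ⟨f, hf⟩ := Module.Projective.exists_dual_ne_zero (ZMod 2) hi
  refine ⟨fun j => f (v j), fun e => hf (congrFun e i), fun g hg => funext fun j => ?_⟩
  have h := congrArg f (congrFun (hS g hg) j)
  rw [act_apply] at h
  rw [← h]
  simp only [Matrix.mulVec, dotProduct, Matrix.map_apply, map_sum, ← Algebra.smul_def, map_smul,
    smul_eq_mul]

theorem J_map : (J56 (ZMod 2)).map (algebraMap (ZMod 2) K) = J56 K := by
  ext a b
  simp only [J56, Matrix.map_apply, Matrix.of_apply]
  split_ifs <;> simp

theorem J_sq : J56 K * J56 K = 1 := by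
  ext a b
  simp only [J56, Matrix.mul_apply, Matrix.of_apply, ite_mul, one_mul, zero_mul,
    Finset.sum_ite_eq', Finset.mem_univ, if_true, Fin.rev_rev, Matrix.one_apply, eq_comm]

theorem scott : ScottStmt := by
  intro π hπ a b hlt
  by_contra hno
  have h1 := Cfsg.Agent.S5529.scott (act π a) (act π b) (act π (a * b)⁻¹)
    (by rw [← map_mul, ← map_mul, mul_inv_cancel, map_one])
  have nf : ∀ v : Fin 56 → K, act π a v = v → act π b v = v → v = 0 := fun v h2 h3 => by
    by_contra hv
    exact hno ⟨v, hv, by rintro g (rfl | rfl) <;> assumption⟩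
  have h2 : LinearMap.ker (1 - act π a) ⊓ LinearMap.ker (1 - act π b) = ⊥ := by
    rw [eq_bot_iff, ker_eq, ker_eq]
    rintro v ⟨ha, hb⟩
    exact nf v (by simpa using (mem_eig π).1 ha) (by simpa using (mem_eig π).1 hb)
  have h3 : LinearMap.range (1 - act π a) ⊔ LinearMap.range (1 - act π b) = ⊤ := by
    by_contra hne
    obtain ⟨φ, hφ, hle⟩ := Submodule.exists_le_ker_of_lt_top _ (lt_top_iff_ne_top.2 hne)
    let c : Fin 56 → K := fun i => φ (Pi.single i 1)
    have hc : ∀ v, φ v = c ⬝ᵥ v := fun v => by
      rw [LinearMap.pi_apply_eq_sum_univ]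
      simp only [dotProduct, c, smul_eq_mul]
      refine Finset.sum_congr rfl fun i _ => ?_
      rw [mul_comm]
      congr 2
      ext j
      simp [Pi.single_apply, eq_comm]
    have key : ∀ g : G0, (∀ v, φ (v - act π g v) = 0) →
        act π g (J56 K *ᵥ c) = J56 K *ᵥ c := fun g hg => by
      set A := (π g).map (algebraMap (ZMod 2) K) with hA
      have hf : Aᵀ * J56 K * A = J56 K := by
        have := congrArg (fun M => M.map (algebraMap (ZMod 2) K)) (hπ.form g)
        simpa only [Matrix.map_mul, J_map, Matrix.transpose_map] using this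
      have hi : A * (J56 K * Aᵀ * J56 K) = 1 := by
        rw [mul_eq_one_comm, mul_assoc, mul_assoc, ← mul_assoc Aᵀ, hf, J_sq]
      have ht : Aᵀ *ᵥ c = c := by
        funext i
        have := hg (Pi.single i 1)
        rw [map_sub, hc, hc, act_apply, ← hA, Matrix.dotProduct_mulVec, sub_eq_zero,
          dotProduct_single_one, dotProduct_single_one] at this
        rw [Matrix.mulVec_transpose, ← this]
      have h4 : (J56 K * Aᵀ * J56 K) *ᵥ (J56 K *ᵥ c) = J56 K *ᵥ c := by
        rw [Matrix.mulVec_mulVec, mul_assoc, J_sq, mul_one, ← Matrix.mulVec_mulVec, ht]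
      rw [act_apply, ← hA]
      conv_lhs => rw [← h4, Matrix.mulVec_mulVec, hi, Matrix.one_mulVec]
    have h0 := nf _ (key a fun v => hle (Submodule.mem_sup_left ⟨v, rfl⟩))
      (key b fun v => hle (Submodule.mem_sup_right ⟨v, rfl⟩))
    have h5 : c = 0 := by
      rw [← Matrix.one_mulVec c, ← J_sq, ← Matrix.mulVec_mulVec, h0, Matrix.mulVec_zero]
    exact hφ (LinearMap.ext fun v => by rw [hc, h5, zero_dotProduct]; rfl)
  rw [h2, h3, ker_eq, ker_eq, ker_eq, eig_inv, finrank_top, finrank_bot, finrank_fin_fun] at h1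
  change fx π a + fx π b + fx π (a * b) + 56 ≤ _ at h1
  omega

end Cfsg.Agent.H79.E72Lin
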