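import Cfsg.Agent.H56.ZCDefs
import Cfsg.Agent.H56.ZCKit
import Cfsg.Agent.H56.ZCCl

/-!
Third part of the local facts for the class `Cn`.
-/

set_option autoImplicit false

namespace Cfsg.Agent.H79.ZCKt3

open Subgroup Cfsg.Agent.H56.FS Cfsg.Agent.H56.ZC
open scoped commutatorElement

universe u

variable {G : Type u} [Group G] [Finite G] {p : ℕ} {D : Set (Subgroup G)}

theorem tr (h : Cn p D) (k1 : Kt1 D) (d : G) (hd : d * d ∈ center G) (Y : Subgroup G) (hY : Y ∈ D)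
    (hne : cj d Y ≠ Y) : ∃ u ∈ RR D (Y ⊔ cj d Y),
    u ∉ ZZ D (Y ⊔ cj d Y) ∧ u⁻¹ * d ∈ centralizer ((Y ⊔ cj d Y : Subgroup G) : Set G) := by
  have hY' : cj d Y ∈ D := h.inv Y hY d
  obtain ⟨u, hu, e⟩ := h.toCl2.conj_pt_pair hY hY'
  have hs := h.toCl2.sol_pair hY hY'
  have hYL : Y ≤ LL D (Y ⊔ cj d Y) := le_LL hY le_sup_left
  have fixE : ∀ z ∈ ZZ D (Y ⊔ cj d Y), cj z Y = Y := fun z hz =>
    cj_of_cent (le_Ce_iff.1 (hYL.trans (LL_le_Ce_of_Z hz)))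
  refine ⟨u, hu, fun hz => hne (e.trans (fixE u hz)), ?_⟩
  have e1 : cj (u⁻¹ * d) Y = Y := by rw [← cj_cj, e, cj_inv_cj]
  have e2 : cj (u⁻¹ * d) (cj d Y) = cj d Y := by
    have a1 : cj (d * d) Y = Y := cj_of_cent (center_le_centralizer _ hd)
    have a2 : cj (u * u) Y = Y := fixE _ (k1.sq _ hs u hu)
    rw [cj_cj, mul_assoc, ← cj_cj, a1, e]
    conv_lhs => rw [← a2]
    rw [cj_cj, inv_mul_cancel_left]
  rw [← le_Ce_iff]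
  exact sup_le (le_Ce_iff.2 (h.eps Y hY (cj_eq_iff.1 e1)))
    (le_Ce_iff.2 (h.eps _ hY' (cj_eq_iff.1 e2)))

/-- every element of `R` is a commutator with `a` modulo `E` -/
theorem exists_rho (h : Cn p D) (k1 : Kt1 D) {X : Subgroup G} (hs : Sv D X) {A : Subgroup G}
    (hA : A ∈ D) (hAX : A ≤ X) {a : G} (ha : a ∈ A) (hz : zpowers a = A) {u : G}
    (hu : u ∈ RR D X) : ∃ ρ ∈ RR D X, ∃ e ∈ ZZ D X, u = a⁻¹ * ρ⁻¹ * a * ρ * e := by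
  have hAL : A ≤ LL D X := le_LL hA hAX
  have cR : ∀ b ∈ A, ∀ x ∈ RR D X, b * x * b⁻¹ ∈ RR D X := fun b hb x hx =>
    (mem_normalizer_iff.1 (LL_le_norm_RR X (hAL hb)) x).1 hx
  have cR' : ∀ x ∈ RR D X, a⁻¹ * x * a ∈ RR D X := fun x hx => by
    simpa using cR a⁻¹ (A.inv_mem ha) x hx
  have nR : ∀ ρ ∈ RR D X, a⁻¹ * ρ⁻¹ * a * ρ ∈ RR D X := fun ρ hρ =>
    (RR D X).mul_mem (cR' _ ((RR D X).inv_mem hρ)) hρ
  let S : Subgroup G :=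
    { carrier := {x | ∃ ρ ∈ RR D X, ∃ e ∈ ZZ D X, x = a⁻¹ * ρ⁻¹ * a * ρ * e}
      one_mem' := ⟨1, one_mem _, 1, one_mem _, by group⟩
      mul_mem' := by
        rintro _ _ ⟨ρ, hρ, e, he, rfl⟩ ⟨σ, hσ, f, hf, rfl⟩
        have hc := k1.cm X hs _ (cR' _ ((RR D X).inv_mem hσ)) _ (nR ρ hρ)
        refine ⟨ρ * σ, mul_mem hρ hσ, _, mul_mem (inv_mem hc) (mul_mem he hf), ?_⟩
        have c1 := ZZ_comm he (RR_le X (nR σ hσ))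
        have c2 := ZZ_comm (inv_mem hc) (RR_le X (nR _ (mul_mem hρ hσ)))
        rw [← mul_assoc _ _ (e * f), c2]
        calc a⁻¹ * ρ⁻¹ * a * ρ * e * (a⁻¹ * σ⁻¹ * a * σ * f)
            = a⁻¹ * ρ⁻¹ * a * ρ * (e * (a⁻¹ * σ⁻¹ * a * σ)) * f := by group
          _ = a⁻¹ * ρ⁻¹ * a * ρ * ((a⁻¹ * σ⁻¹ * a * σ) * e) * f := by rw [c1]
          _ = _ := by rw [commutatorElement_def]; group
      inv_mem' := by
        rintro _ ⟨ρ, hρ, e, he, rfl⟩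
        have hx : a⁻¹ * ρ⁻¹ * a * ρ * e ∈ RR D X := mul_mem (nR ρ hρ) (ZZ_le_RR X he)
        refine ⟨ρ, hρ, _, mul_mem he (inv_mem (k1.sq X hs _ hx)), ?_⟩
        group }
  have cS : ∀ b ∈ A, ∀ x ∈ S, b * x * b⁻¹ ∈ S := by
    rintro b hb _ ⟨ρ, hρ, e, he, rfl⟩
    refine ⟨b * ρ * b⁻¹, cR b hb ρ hρ, e, he, ?_⟩
    have c1 : b * a = a * b := (h.toBs2.comm hA hb a ha).symm
    have c2 := ZZ_comm he (hAL (A.inv_mem hb))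
    have c3 : b⁻¹ * a = a * b⁻¹ := (h.toBs2.comm hA (A.inv_mem hb) a ha).symm
    have c4 : a⁻¹ * b = b * a⁻¹ := h.toBs2.comm hA hb a⁻¹ (A.inv_mem ha)
    calc b * (a⁻¹ * ρ⁻¹ * a * ρ * e) * b⁻¹ = (b * a⁻¹) * ρ⁻¹ * a * ρ * (e * b⁻¹) := by group
      _ = (a⁻¹ * b) * ρ⁻¹ * a * ρ * (b⁻¹ * e) := by rw [c2, c4]
      _ = (a⁻¹ * b) * ρ⁻¹ * (a * b⁻¹) * b * ρ * (b⁻¹ * e) := by group
      _ = (a⁻¹ * b) * ρ⁻¹ * (b⁻¹ * a) * b * ρ * (b⁻¹ * e) := by rw [c3]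
      _ = _ := by group
  have key : ∀ k : ℕ, ∀ r ∈ RR D X, ⁅(a⁻¹) ^ k, r⁆ ∈ S := by
    intro k
    induction k with
    | zero => intro r _; simp
    | succ k ih =>
      intro r hr
      have e1 : ⁅(a⁻¹) ^ (k + 1), r⁆ = a⁻¹ * ⁅(a⁻¹) ^ k, r⁆ * a⁻¹⁻¹ * (a⁻¹ * r⁻¹⁻¹ * a * r⁻¹ * 1) := by
        simp only [commutatorElement_def, pow_succ']
        group
      rw [e1]
      exact mul_mem (cS _ (A.inv_mem ha) _ (ih r hr)) ⟨r⁻¹, inv_mem hr, 1, one_mem _, rfl⟩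
  have hle : RR D X ≤ S := by
    rw [← comm_RA' h.toBs2 h.toSh hs hA hAX, commutator_comm, commutator_le]
    intro b hb r hr
    have hb' : b ∈ zpowers a⁻¹ := by rw [zpowers_inv, hz]; exact hb
    obtain ⟨k, rfl⟩ := (mem_powers_iff_mem_zpowers).2 hb'
    exact key k r hr
  exact hle hu

theorem fpf (h : Cn p D) (k1 : Kt1 D) (k2 : Kt2 D) (A : Subgroup G) (hA : A ∈ D) (B : Subgroup G)
    (hB : B ∈ D) (u : G) (hu : u ∈ RR D (A ⊔ B)) (Y : Subgroup G) (hY : Y ∈ D) (eY : cj u Y = Y) :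
    u ∈ ZZ D (A ⊔ B) := by
  by_contra hn
  have hs := h.toCl2.sol_pair hA hB
  obtain ⟨a, ha, a1, hz⟩ := h.toBs2.exists_gen hA
  obtain ⟨ρ, hρ, e, he, eu⟩ := exists_rho h k1 hs hA le_sup_left ha hz hu
  have RL : RR D (A ⊔ B) ≤ A ⊔ B := (RR_le _).trans (LL_le _)
  set u1 := a⁻¹ * ρ⁻¹ * a * ρ with hu1
  have u1R : u1 ∈ RR D (A ⊔ B) := by
    have : u1 = u * e⁻¹ := by rw [eu]; group
    rw [this]; exact mul_mem hu (inv_mem (ZZ_le_RR _ he))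
  have u1n : u1 ∉ ZZ D (A ⊔ B) := fun hh => hn (eu ▸ mul_mem hh he)
  have nfix : ∀ C ∈ D, C ≤ A ⊔ B → cj u1 C ≠ C := fun C hC hle ee =>
    u1n (k1.mz _ hs C hC hle u1 u1R ee)
  have eL : A ⊔ cj u1 A = A ⊔ B :=
    h.line A hA B hB A hA _ (h.inv A hA u1) le_sup_left (cj_le_of_mem (RL u1R) le_sup_left)
      (nfix A hA le_sup_left).symm
  have cR : ∀ b ∈ A, ∀ x ∈ RR D (A ⊔ B), b * x * b⁻¹ ∈ RR D (A ⊔ B) := fun b hb x hx =>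
    (mem_normalizer_iff.1 (LL_le_norm_RR _ (le_LL hA le_sup_left hb)) x).1 hx
  have hcl := k2.uc _ hs A hA le_sup_left u1 u1R
  rw [eL] at hcl
  have hT : ∀ x ∈ closure {e | ∃ a ∈ A, e = ⁅u1, a * u1 * a⁻¹⁆},
      ∃ s ∈ RR D (A ⊔ B), x = ⁅u1, s⁆ := by
    intro x hx
    induction hx using closure_induction with
    | mem x hx =>
      obtain ⟨b, hb, rfl⟩ := hx
      exact ⟨_, cR b hb u1 u1R, rfl⟩
    | one => exact ⟨1, one_mem _, by simp⟩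
    | mul x y _ _ hx hy =>
      obtain ⟨s, hs', rfl⟩ := hx
      obtain ⟨t, ht, rfl⟩ := hy
      refine ⟨s * t, mul_mem hs' ht, ?_⟩
      have c := ZZ_comm (k1.cm _ hs u1 u1R t ht) (RR_le _ hs')
      calc ⁅u1, s⁆ * ⁅u1, t⁆ = ⁅u1, s⁆ * (⁅u1, t⁆ * s) * s⁻¹ := by group
        _ = ⁅u1, s⁆ * (s * ⁅u1, t⁆) * s⁻¹ := by rw [c]
        _ = _ := by simp only [commutatorElement_def]; group
    | inv x _ hx =>
      obtain ⟨s, hs', rfl⟩ := hx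
      exact ⟨s, hs', inv_eq_of_mul_eq_one_right (k1.e2 _ hs _ (k1.cm _ hs u1 u1R s hs'))⟩
  obtain ⟨s, hsR, es⟩ := hT e (hcl he)
  have eu' : u1 = s⁻¹ * u * s := by
    have c := ZZ_comm he (RR_le _ u1R)
    have e2 : e = e⁻¹ := (inv_eq_of_mul_eq_one_right (k1.e2 _ hs e he)).symm
    rw [eu, c, e2, es, commutatorElement_def]
    group
  have hY' : cj s⁻¹ Y ∈ D := h.inv Y hY _
  have eY' : cj u1 (cj s⁻¹ Y) = cj s⁻¹ Y := by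
    rw [cj_cj, eu', mul_assoc, mul_inv_cancel, mul_one, ← cj_cj, eY]
  set Y' := cj s⁻¹ Y
  have hA1 : cj ρ⁻¹ A ∈ D := h.inv A hA _
  have yA1 : ρ⁻¹ * a * ρ ∈ cj ρ⁻¹ A := by simpa using conj_mem_cj (g := ρ⁻¹) ha
  have ey : cj (ρ⁻¹ * a * ρ) Y' = cj a Y' := by
    have : ρ⁻¹ * a * ρ = a * u1 := by rw [hu1]; group
    rw [this, ← cj_cj, eY']
  by_cases h1 : cj a Y' = Y'
  · have : A ≤ centralizer (Y' : Set G) := by
      rw [← hz, zpowers_le]; exact h.eps Y' hY' (cj_eq_iff.1 h1)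
    have eA := k1.ncp Y' hY' A hA this
    exact nfix A hA le_sup_left (eA ▸ eY')
  have l1 : Y' ⊔ cj a Y' = Y' ⊔ A :=
    h.line Y' hY' A hA Y' hY' _ (h.inv Y' hY' a) le_sup_left
      (cj_le_of_mem ((le_sup_right : A ≤ Y' ⊔ A) ha) le_sup_left) (Ne.symm h1)
  have l2 : Y' ⊔ cj a Y' = Y' ⊔ cj ρ⁻¹ A :=
    h.line Y' hY' _ hA1 Y' hY' _ (h.inv Y' hY' a) le_sup_left
      (ey ▸ cj_le_of_mem ((le_sup_right : cj ρ⁻¹ A ≤ Y' ⊔ cj ρ⁻¹ A) yA1) le_sup_left) (Ne.symm h1)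
  by_cases h2 : A = cj ρ⁻¹ A
  · have hz' := k1.mz _ hs A hA le_sup_left ρ⁻¹ (inv_mem hρ) h2.symm
    have c := ZZ_comm hz' (le_LL hA le_sup_left ha)
    apply u1n
    have : u1 = 1 := by
      rw [hu1, mul_assoc a⁻¹, ← c]; group
    rw [this]; exact one_mem _
  have l3 : A ⊔ cj ρ⁻¹ A = Y' ⊔ A :=
    h.line Y' hY' A hA A hA _ hA1 le_sup_right (by rw [← l1, l2]; exact le_sup_right) h2
  refine nfix Y' hY' ?_ eY'
  calc Y' ≤ Y' ⊔ A := le_sup_left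
    _ = A ⊔ cj ρ⁻¹ A := l3.symm
    _ ≤ A ⊔ B := sup_le le_sup_left (cj_le_of_mem (RL (inv_mem hρ)) le_sup_left)

theorem kt3 : Kt3Stmt.{u} := fun _ _ _ _ _ h k1 k2 =>
  ⟨tr h k1, fpf h k1 k2⟩

end Cfsg.Agent.H79.ZCKt3
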