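import Cfsg.Agent.H78.G40A
import Cfsg.Agent.H46.TEnd
import Cfsg.Agent.H63.UKit

/-! Project L40G: the transfer step. -/

set_option autoImplicit false
set_option linter.unusedSectionVars false
set_option linter.style.haveILetI false

namespace Cfsg.Agent.H79.L40Gen

open Subgroup Cfsg.Agent.H83 Cfsg.Agent.H78.G40
open Cfsg.Agent.H46.S94 (AS TTStmt)
open scoped commutatorElement

universe u

local notation "C[" A "]" => Subgroup.centralizer (SetLike.coe A)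
local notation "N[" A "]" => Subgroup.normalizer (SetLike.coe A)

section
variable {G : Type u} [Group G] [Finite G] {R F : Subgroup G} {t γ : G}

theorem nc {A : Subgroup G} {g a : G} (hg : g ∈ N[A]) (ha : a ∈ A) : g * a * g⁻¹ ∈ A :=
  (mem_normalizer_iff.1 hg a).1 ha

theorem mem_PP {x : G} : x ∈ PP R ↔ ∃ r ∈ R, ∃ o ∈ C[R], r * o = x := by
  rw [← SetLike.mem_coe, coe_mul_of_right_le_normalizer_left _ _ (centralizer_le_normalizer _)]
  exact Iff.rfl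

theorem ncC {g o : G} (hg : g ∈ N[R]) (ho : o ∈ C[R]) : g * o * g⁻¹ ∈ C[R] := by
  rw [mem_centralizer_iff] at ho ⊢
  intro r hr
  have := ho _ (nc (inv_mem hg) hr)
  calc r * (g * o * g⁻¹) = g * (g⁻¹ * r * g⁻¹⁻¹ * o) * g⁻¹ := by group
    _ = _ := by rw [this]; group

theorem ncP {g p : G} (hg : g ∈ N[R]) (hp : p ∈ PP R) : g * p * g⁻¹ ∈ PP R := by
  obtain ⟨r, hr, o, ho, rfl⟩ := mem_PP.1 hp
  exact mem_PP.2 ⟨_, nc hg hr, _, ncC hg ho, by group⟩

/-- the four-group -/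
abbrev EE (t γ : G) : Subgroup G := closure {t, γ}

/-- the extended product -/
abbrev QQ (R : Subgroup G) (t γ : G) : Subgroup G := PP R ⊔ EE t γ

variable (e : Env R t γ F)
include e

theorem EN : EE t γ ≤ N[R] := by
  rw [closure_le]
  rintro x (rfl | rfl)
  exacts [e.tN, e.gN]

theorem mem_E {τ : G} (h : τ ∈ EE t γ) : τ = 1 ∨ τ = t ∨ τ = γ ∨ τ = t * γ := by
  have h1 := e.tt
  have h2 := e.gg
  have h3 := e.gt
  have h4 : ∀ x, t * (t * x) = x := fun x => by rw [← mul_assoc, h1, one_mul]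
  have h5 : ∀ x, γ * (γ * x) = x := fun x => by rw [← mul_assoc, h2, one_mul]
  have h6 : ∀ x, γ * (t * x) = t * (γ * x) := fun x => by rw [← mul_assoc, h3, mul_assoc]
  have h7 : t⁻¹ = t := inv_eq_of_mul_eq_one_right h1
  have h8 : γ⁻¹ = γ := inv_eq_of_mul_eq_one_right h2
  induction h using closure_induction with
  | mem x hx => rcases hx with rfl | rfl <;> simp
  | one => simp
  | mul x y _ _ hx hy =>
    rcases hx with rfl | rfl | rfl | rfl <;> rcases hy with rfl | rfl | rfl | rfl <;>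
      simp [h1, h2, h3, h4, h5, h6, mul_assoc]
  | inv x _ hx => rcases hx with rfl | rfl | rfl | rfl <;> simp [h3, h7, h8]

theorem E2 {τ : G} (h : τ ∈ EE t γ) : τ * τ = 1 := by
  rcases mem_E e h with rfl | rfl | rfl | rfl
  · simp
  · exact e.tt
  · exact e.gg
  · rw [show t * γ * (t * γ) = t * (γ * t) * γ by group, e.gt,
      show t * (t * γ) * γ = t * t * (γ * γ) by group, e.tt, e.gg, one_mul]

theorem Ec {τ σ : G} (h : τ ∈ EE t γ) (h' : σ ∈ EE t γ) : τ * σ = σ * τ := by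
  rw [← inv_eq_of_mul_eq_one_right (E2 e (mul_mem h h')), mul_inv_rev,
    inv_eq_of_mul_eq_one_right (E2 e h), inv_eq_of_mul_eq_one_right (E2 e h')]

theorem mem_Q {x : G} : x ∈ QQ R t γ ↔ ∃ p ∈ PP R, ∃ τ ∈ EE t γ, p * τ = x := by
  rw [← SetLike.mem_coe, coe_mul_of_right_le_normalizer_left _ _ fun g hg =>
    mem_normalizer_fintype (S := (PP R : Set G)) fun _ hp => ncP (EN e hg) hp]
  exact Iff.rfl

omit e in
theorem tE : t ∈ EE t γ := subset_closure (by simp)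

omit e in
theorem gE : γ ∈ EE t γ := subset_closure (by simp)

theorem half {o : G} (ho : o ∈ C[R]) : ∃ c ∈ C[R], c ∈ zpowers o ∧ c * c = o := by
  obtain ⟨m, hm⟩ := e.odd
  refine ⟨o ^ (m + 1), pow_mem ho _, pow_mem (mem_zpowers o) _, ?_⟩
  have : o ^ (2 * m + 1) = 1 := by
    rw [← hm]; exact orderOf_dvd_iff_pow_eq_one.1 (orderOf_dvd_natCard _ ho)
  rw [← pow_add, show m + 1 + (m + 1) = 2 * m + 1 + 1 by ring, pow_succ, this, one_mul]

theorem split {r o : G} (hr : r ∈ R) (ho : o ∈ C[R]) (h : r * o = 1) : r = 1 ∧ o = 1 := by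
  have h1 : r ∈ R ⊓ C[R] := mem_inf.2 ⟨hr, by rw [eq_inv_of_mul_eq_one_left h]; exact inv_mem ho⟩
  rw [e.zr, mem_bot] at h1
  exact ⟨h1, by rwa [h1, one_mul] at h⟩

theorem cl {g p τ : G} (hp : p ∈ PP R) (hτ : τ ∈ EE t γ) (h : g * t * g⁻¹ = p * τ) :
    ∃ r ∈ R, ∃ c ∈ C[R], r * τ * (r * τ) = 1 ∧ g * t * g⁻¹ = c * (r * τ) * c⁻¹ := by
  obtain ⟨r, hr, o, ho, rfl⟩ := mem_PP.1 hp
  have t2 := E2 e hτ
  have h1 : r * o * τ * (r * o * τ) = 1 := by
    rw [← h, conj_mul, e.tt]; group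
  have h2 := mem_centralizer_iff.1 ho _ (nc (EN e hτ) hr)
  obtain ⟨h3, h4⟩ := split e (mul_mem hr (nc (EN e hτ) hr)) (mul_mem ho (ncC (EN e hτ) ho)) (by
    calc r * (τ * r * τ⁻¹) * (o * (τ * o * τ⁻¹))
        = r * (τ * r * τ⁻¹ * o) * (τ * o * τ⁻¹) := by group
      _ = r * o * τ * (r * o * τ) * (τ * τ)⁻¹ := by rw [h2]; group
      _ = 1 := by rw [h1, t2]; group)
  obtain ⟨c, hc, hco, e2⟩ := half e ho
  have h5 : τ * c * τ⁻¹ = c⁻¹ := by
    obtain ⟨k, rfl⟩ := hco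
    simp only
    rw [← conj_zpow, eq_inv_of_mul_eq_one_right h4, inv_zpow]
  refine ⟨r, hr, c, hc, ?_, ?_⟩
  · calc r * τ * (r * τ) = r * (τ * r * τ⁻¹) * (τ * τ) := by group
      _ = 1 := by rw [h3, t2, one_mul]
  · have h6 : τ * c⁻¹ * τ⁻¹ = c := by rw [← conj_inv, h5, inv_inv]
    calc g * t * g⁻¹ = r * c * c * τ := by rw [h, ← e2]; group
      _ = c * r * (τ * c⁻¹ * τ⁻¹) * τ := by rw [h6, mem_centralizer_iff.1 hc r hr]
      _ = _ := by group

theorem cl' {g p τ : G} (hp : p ∈ PP R) (hτ : τ ∈ EE t γ) (h : g * t * g⁻¹ = p * τ) :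
    ∃ r ∈ R, IsConj t (r * τ) := by
  obtain ⟨r, hr, c, -, -, h2⟩ := cl e hp hτ h
  refine ⟨r, hr, isConj_iff.2 ⟨c⁻¹ * g, ?_⟩⟩
  calc c⁻¹ * g * t * (c⁻¹ * g)⁻¹ = c⁻¹ * (g * t * g⁻¹) * c := by group
    _ = _ := by rw [h2]; group

theorem tau {g p τ : G} (hp : p ∈ PP R) (hτ : τ ∈ EE t γ) (h : g * t * g⁻¹ = p * τ) : τ = t := by
  obtain ⟨r, hr, h1⟩ := cl' e hp hτ h
  rcases mem_E e hτ with rfl | rfl | rfl | rfl
  · exact absurd (mul_one r ▸ h1) (e.nc0 r hr)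
  · rfl
  · rcases e.nc1 with rfl | h2
    · exact absurd (mul_one r ▸ h1) (e.nc0 r hr)
    · exact absurd h1 (h2 r hr).1
  · rcases e.nc1 with rfl | h2
    · exact mul_one t
    · exact absurd (by rwa [← e.gt, ← mul_assoc] at h1) (h2 r hr).2

theorem cent {c : G} (h : c * t = t * c) : c ∈ QQ R t γ := by
  obtain ⟨r, hr, o, ho, h1⟩ := e.cov c h
  have hp : r * o ∈ QQ R t γ := mem_sup_left (mem_PP.2 ⟨r, hr, o, ho, rfl⟩)
  have ht : t ∈ QQ R t γ := mem_sup_right tE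
  have hg : γ ∈ QQ R t γ := mem_sup_right gE
  rcases h1 with rfl | rfl | rfl | rfl
  exacts [hp, mul_mem hp ht, mul_mem hp hg, mul_mem (mul_mem hp ht) hg]

theorem uf {g : G} (h : g * t * g⁻¹ ∈ QQ R t γ) : g ∈ QQ R t γ := by
  obtain ⟨p, hp, τ, hτ, h1⟩ := (mem_Q e).1 h
  obtain rfl := tau e hp hτ h1.symm
  obtain ⟨r, hr, c, hc, h2, h3⟩ := cl e hp hτ h1.symm
  obtain ⟨y, hy, h4⟩ := e.cls r hr h2
  have h5 : (c * y)⁻¹ * g ∈ QQ R τ γ := cent e (by
    rw [h4] at h3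
    calc (c * y)⁻¹ * g * τ = (c * y)⁻¹ * (g * τ * g⁻¹) * g := by group
      _ = _ := by rw [h3]; group)
  have h6 : c * y ∈ QQ R τ γ := mem_sup_left (mul_mem (mem_sup_right hc) (mem_sup_left hy))
  have h7 := mul_mem h6 h5
  rwa [mul_inv_cancel_left] at h7

theorem comm {a b : G} (ha : a ∈ QQ R t γ) (hb : b ∈ QQ R t γ) : a * b * a⁻¹ * b⁻¹ ∈ PP R := by
  obtain ⟨p, hp, τ, hτ, rfl⟩ := (mem_Q e).1 ha
  obtain ⟨q, hq, σ, hσ, rfl⟩ := (mem_Q e).1 hb
  have h : p * τ * (q * σ) * (p * τ)⁻¹ * (q * σ)⁻¹ =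
      p * (τ * q * τ⁻¹) * (σ * p⁻¹ * σ⁻¹) * q⁻¹ := by
    calc _ = p * (τ * q * τ⁻¹) * (τ * σ) * τ⁻¹ * p⁻¹ * σ⁻¹ * q⁻¹ := by group
      _ = _ := by rw [Ec e hτ hσ]; group
  rw [h]
  exact mul_mem (mul_mem (mul_mem hp (ncP (EN e hτ) hq)) (ncP (EN e hσ) (inv_mem hp))) (inv_mem hq)

theorem perf : ⁅F, F⁆ = F := by
  haveI := e.as.simple
  have h : ⁅(⊤ : Subgroup F), ⊤⁆ = ⊤ := (Normal.eq_bot_or_eq_top inferInstance).resolve_left fun h =>
    e.as.nc ⟨⟨fun a b => commutatorElement_eq_one_iff_mul_comm.1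
      (mem_bot.1 (h ▸ commutator_mem_commutator (mem_top a) (mem_top b)))⟩⟩
  have := congrArg (Subgroup.map F.subtype) h
  rwa [map_commutator, ← MonoidHom.range_eq_map, range_subtype] at this

theorem tr (hT : TTStmt.{u}) {y : G} (hy : y ∈ EE t γ) (hF : y ∈ F) : y ∈ PP R := by
  have ht : t ∈ QQ R t γ := mem_sup_right tE
  refine H46.TEnd.tt_sub hT e.as.normal (perf e) e.tt ht (fun _ => uf e)
    (fun a ha b hb => comm e ha.1 hb.1) ⟨mem_sup_right hy, hF⟩ (E2 e hy) (Ec e hy tE)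
    fun g _ hx => ?_
  have := comm e (inv_mem hx) ht
  rwa [inv_inv, inv_eq_of_mul_eq_one_right e.tt, mul_assoc, mul_assoc, ← mul_assoc t] at this

theorem tF (hT : TTStmt.{u}) : t ∉ F := fun h =>
  e.t1 (tau e (g := 1) (tr e hT tE h) (one_mem _) (by group)).symm

theorem g1 (hT : TTStmt.{u}) : γ = 1 := by
  rcases e.cov0 γ with h | h
  · have := tau e (g := 1) (tr e hT gE h) (mul_mem gE tE) (by
      rw [← mul_assoc γ, e.gg]; group)
    exact mul_eq_right.1 this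
  · have := tau e (g := 1) (tr e hT (mul_mem gE tE) h) gE (by
      rw [e.gt, mul_assoc t, e.gg]; group)
    rw [this, e.tt] at h
    rcases e.nc1 with k | k
    · exact k
    · exact absurd (by rw [this, one_mul]) (k 1 (one_mem _)).1

theorem sqF (g : G) : g * g ∈ F := by
  rcases e.cov0 g with h | h
  · exact mul_mem h h
  · have := mul_mem h (e.as.normal.conj_mem _ h t)
    rwa [show g * t * (t * (g * t) * t⁻¹) = g * (t * t) * g by group, e.tt, mul_one] at this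

theorem pF : PP R ≤ F := sup_le e.le fun o ho => by
  obtain ⟨c, -, -, rfl⟩ := half e ho
  exact sqF e c

theorem QF (hT : TTStmt.{u}) {x : G} (hx : x ∈ QQ R t γ) (hF : x ∈ F) : x ∈ PP R := by
  obtain ⟨p, hp, τ, hτ, rfl⟩ := (mem_Q e).1 hx
  exact mul_mem hp (tr e hT hτ ((mul_mem_cancel_left (pF e hp)).1 hF))

theorem two {p : G} (hp : p ∈ PP R) (h : Two p) : p ∈ R := by
  obtain ⟨r, hr, o, ho, rfl⟩ := mem_PP.1 hp
  obtain ⟨n, hn⟩ := h
  have hc : Commute r o := mem_centralizer_iff.1 ho r hr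
  rw [hc.mul_pow] at hn
  have h1 := (split e (pow_mem hr _) (pow_mem ho _) hn).2
  have h2 : orderOf o = 1 := Nat.eq_one_of_dvd_coprimes
    (Nat.Coprime.pow_left n (Nat.coprime_two_left.2 e.odd)) (orderOf_dvd_of_pow_eq_one h1)
    (orderOf_dvd_natCard _ ho)
  rw [orderOf_eq_one_iff.1 h2, mul_one]
  exact hr

end

theorem gen : GenS.{u} := by
  intro hT G _ _ R F t γ e
  have ht : t ∈ QQ R t γ := mem_sup_right tE
  refine ⟨e.as, e.le, pF e, e.tt, e.tN, tF e hT, e.odd, e.zr, fun g hg p hp h => ?_,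
    fun p hp h => two e hp h, fun r hr h c hc h1 => ?_, fun T hTs => ?_⟩
  · exact QF e hT (uf e (h ▸ mul_mem (mem_sup_left hp) ht)) hg
  · obtain ⟨y, hy, h2⟩ := e.cls r hr h
    have h3 : y⁻¹ * c * y ∈ QQ R t γ := cent e (by
      rw [h2] at h1
      calc y⁻¹ * c * y * t = y⁻¹ * (c * (y * t * y⁻¹)) * y := by group
        _ = _ := by rw [h1]; group)
    have h4 : y ∈ QQ R t γ := mem_sup_left (mem_sup_left hy)
    refine QF e hT ?_ hc
    simpa [mul_assoc] using mul_mem (mul_mem h4 h3) (inv_mem h4)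
  · haveI : Fact (Nat.Prime 2) := ⟨Nat.prime_two⟩
    have uq : H63.UK.Uq (QQ R t γ) t := ⟨ht, e.tt, fun _ => uf e⟩
    have z := uq.zp 1
    rw [one_mul, inv_one, mul_one] at z
    obtain ⟨S, hS, hle⟩ := exists_isSylowIn_ge (le_top : zpowers t ≤ ⊤) z
    have h1 := uq.two_le hS.isPGroup (hle (mem_zpowers t))
    have h2 := hS.inf_normal (N := F) le_top (by
      haveI := e.as.normal
      exact le_normalizer_of_normal)
    refine hTs.of_parabolic e.le h2 fun x hx => two e (QF e hT (h1 hx.1) hx.2) ?_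
    obtain ⟨n, hn⟩ := hS.isPGroup ⟨x, hx.1⟩
    exact ⟨n, congrArg Subtype.val hn⟩

end Cfsg.Agent.H79.L40Gen
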