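import Cfsg.Agent.H17.TwA

/-!
The balance data for the seven commuting involutions.
-/

set_option autoImplicit false
set_option maxRecDepth 100000

namespace Cfsg.Agent.H79.A12Sev

open Equiv Subgroup Cfsg.Agent.H89.TG Cfsg.Agent.H89.Rec Cfsg.Agent.H17.Ya Cfsg.Agent.H17.Tw

universe u

theorem cv_inj {i l : Fin 7} (h : cv i = cv l) : i = l := by
  have key : ∀ i l : Fin 7, cN i = cN l → i = l := by decide
  exact key i l (tv_inj (cN_lt i) (cN_lt l) h)

theorem cv_sq (i : Fin 7) : cv i * cv i = 1 := tv_sq (cN_lt i)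

theorem cv_comm (i l : Fin 7) : Commute (cv i) (cv l) := tv_comm (cN_lt i) (cN_lt l)

theorem cv6 : cv 6 = tv 21 := rfl

theorem cv_ne_one (i : Fin 7) : cv i ≠ 1 := fun e => by
  have key : ∀ i : Fin 7, cN i ≠ 0 := by decide
  exact key i (tv_inj (cN_lt i) (by decide) (e.trans tv0.symm))

theorem cv_three {a d b f : Fin 7} (hbd : b ≠ d) (e : cv a * cv d * cv b = cv f) :
    a = d ∨ a = b := by
  have h1 : cN a ^^^ cN d < 64 := xor_lt (cN_lt a) (cN_lt d)
  have h2 : cN a ^^^ cN d ^^^ cN b < 64 := xor_lt h1 (cN_lt b)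
  rw [cv, cv, cv, tv_mul (cN_lt a) (cN_lt d), tv_mul h1 (cN_lt b)] at e
  have key : ∀ a d b f : Fin 7, b ≠ d → cN a ^^^ cN d ^^^ cN b = cN f → a = d ∨ a = b := by
    decide
  exact key a d b f hbd (tv_inj h2 (cN_lt f) e)

theorem cv_prod : cv 0 * cv 1 * cv 2 * cv 3 * cv 4 * cv 5 * cv 6 = 1 := by
  show tv 2 * tv 3 * tv 8 * tv 12 * tv 32 * tv 48 * tv 21 = 1
  rw [tv_mul (by decide) (by decide), tv_mul (by decide) (by decide),
    tv_mul (by decide) (by decide), tv_mul (by decide) (by decide),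
    tv_mul (by decide) (by decide), tv_mul (by decide) (by decide)]
  exact tv0

theorem closure_cv : closure (Set.range cv) = AT := by
  apply le_antisymm
  · rw [closure_le]
    rintro _ ⟨i, rfl⟩
    exact tv_mem (cN_lt i)
  · have hc : ∀ i, cv i ∈ closure (Set.range cv) := fun i => subset_closure ⟨i, rfl⟩
    have h2 : ∀ k < 6, tv (2 ^ k) ∈ closure (Set.range cv) := by
      intro k hk
      interval_cases k
      · have := mul_mem (hc 0) (hc 1)
        rwa [show cv 0 * cv 1 = tv (2 ^ 0) from tv_mul (by decide) (by decide)] at this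
      · exact hc 0
      · have := mul_mem (hc 2) (hc 3)
        rwa [show cv 2 * cv 3 = tv (2 ^ 2) from tv_mul (by decide) (by decide)] at this
      · exact hc 2
      · have := mul_mem (hc 4) (hc 5)
        rwa [show cv 4 * cv 5 = tv (2 ^ 4) from tv_mul (by decide) (by decide)] at this
      · exact hc 4
    have key : ∀ k ≤ 6, ∀ a < 2 ^ k, tv a ∈ closure (Set.range cv) := by
      intro k
      induction k with
      | zero =>
        intro _ a ha
        obtain rfl : a = 0 := by simpa using ha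
        rw [tv0]; exact one_mem _
      | succ k ih =>
        intro hk a ha
        have h3 : ∀ k < 6, ∀ a < 2 ^ (k + 1), a < 2 ^ k ∨ (a ^^^ 2 ^ k < 2 ^ k ∧
            a ^^^ 2 ^ k < 64 ∧ 2 ^ k < 64 ∧ a ^^^ 2 ^ k ^^^ 2 ^ k = a) := by decide
        rcases h3 k hk a ha with h | ⟨h, h4, h5, h6⟩
        · exact ih (by omega) a h
        · have := mul_mem (ih (by omega) _ h) (h2 k hk)
          rwa [tv_mul h4 h5, h6] at this
    intro u hu
    obtain ⟨a, ha, rfl⟩ := mem_AT'.1 hu
    exact key 6 le_rfl a ha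

theorem card_AT : Nat.card AT = 64 := by
  let f : Fin 64 → AT := fun a => ⟨tv a, tv_mem a.2⟩
  have hf : Function.Bijective f := ⟨fun a b e => Fin.ext (tv_inj a.2 b.2 (congrArg Subtype.val e)),
    fun ⟨u, hu⟩ => let ⟨a, ha, e⟩ := mem_AT'.1 hu; ⟨⟨a, ha⟩, Subtype.ext e.symm⟩⟩
  rw [← Nat.card_eq_of_bijective f hf, Nat.card_eq_fintype_card, Fintype.card_fin]

variable {G : Type u} [Group G] [Finite G]

theorem oc_conj {K K' : Subgroup G} (g : G) (h : ∀ x, x ∈ K ↔ g * x * g⁻¹ ∈ K') {y : G}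
    (hy : y ∈ oc K) : g * y * g⁻¹ ∈ oc K' := by
  refine le_oc (O := (oc K).map (MulAut.conj g).toMonoidHom) ?_ ?_ ?_ ⟨y, hy, rfl⟩
  · rintro _ ⟨x, hx, rfl⟩
    exact (h x).1 (oc_le K hx)
  · rw [card_map_of_injective (MulAut.conj g).injective]
    exact oc_odd K
  · intro k hk
    refine mem_nrm ?_
    rintro _ ⟨x, hx, rfl⟩
    have h1 : g⁻¹ * k * g ∈ K := (h _).2 (by simpa [mul_assoc] using hk)
    refine ⟨_, (mem_normalizer_iff.1 (oc_nrm (le_normalizer h1)) x).1 hx, ?_⟩
    simp [mul_assoc]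

omit [Finite G] in
theorem comm_conj {g x a b : G} (e : g * a * g⁻¹ = b) : a * x = x * a ↔
    b * (g * x * g⁻¹) = g * x * g⁻¹ * b := by
  subst e
  simp only [mul_assoc, inv_mul_cancel_left, mul_right_inj]
  simp only [← mul_assoc, mul_left_inj]

omit [Finite G] in
/-- commuting involutions lie in a 2-group -/
theorem exists_two (Y : Set G) (h1 : ∀ a ∈ Y, a * a = 1) (h2 : ∀ a ∈ Y, ∀ b ∈ Y, a * b = b * a) :
    ∃ X : Subgroup G, IsPGroup 2 X ∧ ∀ a ∈ Y, a ∈ X := by
  have hc : ∀ x ∈ centralizer (centralizer Y : Set G), ∀ y ∈ centralizer (centralizer Y : Set G),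
      y * x = x * y := fun x hx y hy => hx y fun s hs => (hy s fun t ht => h2 t ht s hs)
  refine ⟨{ carrier := {x | x ∈ centralizer (centralizer Y : Set G) ∧ x * x = 1}
            one_mem' := ⟨one_mem _, mul_one 1⟩
            mul_mem' := ?_
            inv_mem' := ?_ }, fun x => ⟨1, Subtype.ext (by simpa [pow_two] using x.2.2)⟩,
    fun a ha => ⟨fun s hs => (hs a ha).symm, h1 a ha⟩⟩
  · rintro x y ⟨hx, ex⟩ ⟨hy, ey⟩
    refine ⟨mul_mem hx hy, ?_⟩
    calc x * y * (x * y) = x * (y * x) * y := by group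
      _ = x * (x * y) * y := by rw [hc x hx y hy]
      _ = (x * x) * (y * y) := by group
      _ = 1 := by rw [ex, ey, mul_one]
  · rintro x ⟨hx, ex⟩
    exact ⟨inv_mem hx, by rw [← mul_inv_rev, ex, inv_one]⟩

theorem move {j : T →* G} (hj : Fr j) (h7 : S7 j) (i : Fin 7) :
    ∃ (g : G) (π : Perm (Fin 7)), π i = 6 ∧ ∀ m, g * j (cv m) * g⁻¹ = j (cv (π m)) := by
  obtain ⟨g, hg, e⟩ := h7.tr i
  obtain ⟨π, hπ⟩ := h7.perm g hg
  exact ⟨g, π, cv_inj ((hπ i).uniq hj.inj e), hπ⟩

theorem sev : SevStmt.{u} := by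
  intro G _ _ j hj h7 hL
  have sq : ∀ i, j (cv i) * j (cv i) = 1 := fun i => map_sq j (cv_sq i)
  have cm : ∀ i l, Commute (j (cv i)) (j (cv l)) := fun i l => (cv_comm i l).map j
  have ne6 : ∀ (π : Perm (Fin 7)) {i l : Fin 7}, π i = 6 → i ≠ l → π l ≠ 6 :=
    fun π i l e h e' => h (π.injective (e.trans e'.symm))
  refine ⟨sq, cm, ?_, ?_, ?_, ?_, ?_⟩
  · simp only [← map_mul, cv_prod, map_one]
  · have : closure (Set.range fun i => j (cv i)) = AT.map j := by
      rw [← closure_cv, MonoidHom.map_closure, ← Set.range_comp]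
      rfl
    rw [this, card_map_of_injective hj.inj, card_AT]
  · intro i l n hil hin hln
    set K := centralizer {j (cv i) * j (cv l), j (cv l) * j (cv n)} with hK
    have memK : ∀ x, x ∈ K ↔ Commute (j (cv i) * j (cv l)) x ∧ Commute (j (cv l) * j (cv n)) x := by
      intro x
      simp [hK, mem_centralizer_iff, Commute, SemiconjBy]
    obtain ⟨O, h1, h2, h3, h4⟩ := exists_core K
    have hu : j (cv l) ∈ K := (memK _).2 ⟨(cm i l).mul_left (cm l l), (cm l l).mul_left (cm n l)⟩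
    intro g hg
    refine le_oc h1 h2 (fun k hk => h3 k (le_normalizer hk)) (h4 _ hu (hj.ord2 (cv_sq l)
      (cv_ne_one l)) ?_ g hg)
    intro k hk hc
    set c := k * j (cv l) * k⁻¹ with hc'
    have cK : c ∈ K := mul_mem (mul_mem hk hu) (inv_mem hk)
    obtain ⟨k1, k2⟩ := (memK k).1 hk
    obtain ⟨c1, c2⟩ := (memK c).1 cK
    have ci : Commute (j (cv i)) c := by
      have := c1.mul_left hc
      rwa [mul_assoc, sq, mul_one] at this
    have cn : Commute (j (cv n)) c := by
      have := hc.mul_left c2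
      rwa [← mul_assoc, sq, one_mul] at this
    have csq : c * c = 1 := by
      calc c * c = k * (j (cv l) * j (cv l)) * k⁻¹ := by rw [hc']; group
        _ = 1 := by rw [sq]; group
    obtain ⟨X, hX, hm⟩ := exists_two {c, j (cv i), j (cv l), j (cv n)} (by
      simp only [Set.mem_insert_iff, Set.mem_singleton_iff]
      rintro a (rfl | rfl | rfl | rfl)
      exacts [csq, sq _, sq _, sq _]) (by
      simp only [Set.mem_insert_iff, Set.mem_singleton_iff]
      rintro a (rfl | rfl | rfl | rfl) b (rfl | rfl | rfl | rfl)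
      exacts [rfl, ci.symm, hc.symm, cn.symm, ci, rfl, cm _ _, cm _ _, hc, cm _ _, rfl, cm _ _,
        cn, cm _ _, cm _ _, rfl])
    obtain ⟨h, -, hh⟩ := hj.syl.exists_conj_le le_top hX
    have toC : ∀ x ∈ X, (∃ (m : Fin 7) (r : G), x = r * j (cv m) * r⁻¹) →
        ∃ a, h * x * h⁻¹ = j (cv a) := by
      rintro x hx ⟨m, r, e⟩
      obtain ⟨u, hu⟩ := hh x hx
      obtain ⟨g', -, e'⟩ := h7.tr m
      have : Cj j (h * r) (cv m) u := by
        unfold Cj
        rw [hu, e]; group
      obtain ⟨a, rfl⟩ := h7.all u (this.inD' ⟨g', e'⟩)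
      exact ⟨a, hu.symm⟩
    have mc : c ∈ X := hm _ (by simp)
    have mi : j (cv i) ∈ X := hm _ (by simp)
    have ml : j (cv l) ∈ X := hm _ (by simp)
    have mn : j (cv n) ∈ X := hm _ (by simp)
    obtain ⟨a, ea⟩ := toC c mc ⟨l, k, rfl⟩
    obtain ⟨b, eb⟩ := toC _ mi ⟨i, 1, by group⟩
    obtain ⟨d, ed⟩ := toC _ ml ⟨l, 1, by group⟩
    obtain ⟨e, ee⟩ := toC _ mn ⟨n, 1, by group⟩
    have dis : ∀ {x y : Fin 7} {x' y' : Fin 7}, x ≠ y → h * j (cv x) * h⁻¹ = j (cv x') →
        h * j (cv y) * h⁻¹ = j (cv y') → x' ≠ y' := by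
      rintro x y x' y' hxy e1 e2 rfl
      exact hxy (cv_inj (Cj.uniq' hj.inj e1 e2))
    have three : ∀ {m b : Fin 7}, m ≠ l → j (cv m) ∈ X → h * j (cv m) * h⁻¹ = j (cv b) →
        Commute (j (cv l) * j (cv m)) k → a = d ∨ a = b := by
      intro m b hml hmX eb hk
      have e1 : c * j (cv l) * j (cv m) = k * j (cv m) * k⁻¹ := by
        calc c * j (cv l) * j (cv m) = k * j (cv l) * (k⁻¹ * (j (cv l) * j (cv m))) := by
              rw [hc']; group
          _ = k * j (cv l) * ((j (cv l) * j (cv m)) * k⁻¹) := by rw [hk.inv_right.eq]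
          _ = k * (j (cv l) * j (cv l)) * j (cv m) * k⁻¹ := by group
          _ = _ := by rw [sq]; group
      obtain ⟨f, ef⟩ := toC _ (mul_mem (mul_mem mc ml) hmX) ⟨m, k, e1⟩
      refine cv_three (f := f) (dis hml eb ed) (hj.inj ?_)
      rw [map_mul, map_mul, ← ea, ← ed, ← eb, ← ef]
      group
    have had : a = d := by
      rcases three hil mi eb ((cm i l).eq ▸ k1) with h5 | h5
      · exact h5
      rcases three hln.symm mn ee k2 with h6 | h6
      · exact h6
      exact absurd (h5.symm.trans h6) (dis hin eb ee)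
    subst had
    have := ea.trans ed.symm
    simpa using this
  · intro i l n hil hin hln y hy
    obtain ⟨g, π, e, hπ⟩ := move hj h7 i
    have h1 := hL.hb (π l) (π n) (ne6 π e hil) (ne6 π e hin) (π.injective.ne hln)
      (oc_conj g (K' := centralizer {j (tv 21), j (cv (π l)), j (cv (π n))}) (fun x => by
        simp only [mem_centralizer_iff, Set.mem_insert_iff, Set.mem_singleton_iff,
          forall_eq_or_imp, forall_eq]
        rw [comm_conj (hπ i), comm_conj (hπ l), comm_conj (hπ n), e, cv6]) hy)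
    refine th_of_conj (g := g) ?_
    rw [hπ i, e]
    exact h1
  · intro p i l n hi hl hn hil hin hln y hy ho c1 c2
    obtain ⟨g, π, e, hπ⟩ := move hj h7 p
    have hy' : g * y * g⁻¹ ∈ CT j := by
      rw [mem_centralizer_singleton_iff] at hy ⊢
      rw [← cv6, ← e]
      exact ((comm_conj (hπ p)).1 hy.symm).symm
    have cc : ∀ {a b : Fin 7}, Commute y (j (cv a) * j (cv b)) →
        Commute (g * y * g⁻¹) (j (cv (π a) * cv (π b))) := by
      intro a b h
      rw [map_mul, ← hπ, ← hπ]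
      have := h.map (MulAut.conj g)
      simpa [mul_assoc] using this
    have h1 := hL.hc (π i) (π l) (π n) (ne6 π e hi) (ne6 π e hl) (ne6 π e hn)
      (π.injective.ne hil) (π.injective.ne hin) (π.injective.ne hln) _ hy'
      (by rwa [← MulAut.conj_apply, MulEquiv.orderOf_eq]) (cc c1) (cc c2)
    refine th_of_conj (g := g) ?_
    rw [hπ p, e]
    have e2 : g * (y * j (cv l) * y⁻¹ * j (cv l)) * g⁻¹ =
        g * y * g⁻¹ * j (cv (π l)) * (g * y * g⁻¹)⁻¹ * j (cv (π l)) := by
      rw [← hπ]; group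
    rw [e2]
    exact h1

end Cfsg.Agent.H79.A12Sev
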