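import Cfsg.Agent.H79.InvolO
import Cfsg.Agent.H30.OrthCount

/-!
Orders of pointwise stabilisers of totally isotropic subspaces in orthogonal groups, and of centralisers of
involutions in `Ω` in characteristic two.
-/

set_option autoImplicit false

namespace Cfsg.Agent.H79

open Module LinearMap QuadraticMap
open Cfsg.Agent.H27 (isomGroup spOrder)
open Cfsg.Agent.H30 (O refl dickson kerDS IsExc perp isoEquiv hperp)

section Abstract

variable {F V : Type*} [Field F] [AddCommGroup V] [Module F V] [FiniteDimensional F V]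
  {Q : QuadraticForm F V}

omit [FiniteDimensional F V] in
theorem sub_mem_hperp {e f u : V} (h : H30.IsHyp Q e f) (hu : polar Q u e = 0) :
    u - polar Q u f • e ∈ hperp Q e f := H30.mem_hperp.2
  ⟨by rw [polar_sub_left, H30.polar_smul_left', hu, h.polar_left]; simp,
    by rw [polar_sub_left, H30.polar_smul_left', h.pol]; simp⟩

theorem card_fixSub_hyp (hQ : (polarBilin Q).Nondegenerate) {e f : V} (h : H30.IsHyp Q e f)
    {U : Submodule F V} (he : e ∈ U) (hU : ∀ u ∈ U, polar Q u e = 0) :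
    Nat.card (fixSub (O Q) (U ⊔ F ∙ f)) =
      Nat.card (fixSub (O (Q.restrict (hperp Q e f))) (U.comap (hperp Q e f).subtype)) := by
  have he' : e ∈ Submodule.span F {e, f} := Submodule.subset_span (by simp)
  have hf' : f ∈ Submodule.span F {e, f} := Submodule.subset_span (by simp)
  symm
  refine Nat.card_congr (Equiv.ofBijective (fun g => ⟨H30.orthSum h.orthDec (1, g.1),
    mem_fixSub_sup_span.2 ⟨fun u hu => ?_, H30.orthSum_apply_left h.orthDec _ ⟨f, hf'⟩⟩⟩) ⟨?_, ?_⟩)
  · have h1 := sub_mem_hperp h (hU u hu)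
    have h2 := H30.orthSum_apply_right h.orthDec (1, g.1) ⟨_, h1⟩
    rw [g.2 ⟨_, h1⟩ (U.sub_mem hu (U.smul_mem _ he)), map_sub, map_smul,
      H30.orthSum_apply_left h.orthDec _ ⟨e, he'⟩] at h2
    exact sub_left_injective h2
  · intro a b hab
    exact Subtype.ext (congrArg Prod.snd (H30.orthSum_injective h.orthDec (congrArg Subtype.val hab)))
  · rintro ⟨g, hg⟩
    obtain ⟨h1, h2⟩ := mem_fixSub_sup_span.1 hg
    have h3 : ∀ w ∈ hperp Q e f, g.1 w ∈ hperp Q e f := fun w hw => H30.mem_hperp.2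
      ⟨by rw [← h1 e he, H30.O_polar, hw.1], by rw [← h2, H30.O_polar, hw.2]⟩
    refine ⟨⟨H30.restrictO g _ h3, fun u hu => Subtype.ext (h1 _ hu)⟩, Subtype.ext ?_⟩
    exact h.ext_hperp ((H30.orthSum_apply_left h.orthDec _ ⟨e, he'⟩).trans (h1 e he).symm)
      ((H30.orthSum_apply_left h.orthDec _ ⟨f, hf'⟩).trans h2.symm)
      fun w hw => H30.orthSum_apply_right h.orthDec _ ⟨w, hw⟩

theorem finrank_comap_hperp {e f : V} (h : H30.IsHyp Q e f)
    {U : Submodule F V} (he : e ∈ U) (hU : ∀ u ∈ U, polar Q u e = 0) :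
    finrank F (U.comap (hperp Q e f).subtype) + 1 = finrank F U := by
  have h1 : e ∉ (U.comap (hperp Q e f).subtype).map (hperp Q e f).subtype := by
    rintro ⟨w, -, hw⟩
    have := w.2.2
    rw [show (w : V) = e from hw, h.pol] at this
    exact one_ne_zero this
  rw [← Submodule.finrank_map_subtype_eq, ← Submodule.finrank_sup_span_singleton h1]
  refine congrArg (fun W : Submodule F V => finrank F W) (le_antisymm ?_ fun u hu => ?_)
  · exact sup_le (Submodule.map_comap_le _ _) ((Submodule.span_singleton_le_iff_mem _ _).2 he)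
  · rw [← sub_add_cancel u (polar Q u f • e)]
    exact Submodule.add_mem_sup ⟨⟨_, sub_mem_hperp h (hU u hu)⟩, U.sub_mem hu (U.smul_mem _ he), rfl⟩
      (Submodule.smul_mem _ _ (Submodule.mem_span_singleton_self e))

theorem card_fixSub_step [Fintype F] (hQ : (polarBilin Q).Nondegenerate) {e f : V}
    (h : H30.IsHyp Q e f) {U : Submodule F V} (he : e ∈ U) (hU : ∀ u ∈ U, polar Q u e = 0) {j : ℕ}
    (hj : finrank F V = finrank F U + j + 1) :
    Nat.card (fixSub (O Q) U) = Fintype.card F ^ j *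
      Nat.card (fixSub (O (Q.restrict (hperp Q e f))) (U.comap (hperp Q e f).subtype)) := by
  have hfU : ∀ y, polar Q e y = 1 → y ∉ U := fun y hy hyU => by
    rw [polar_comm, hU y hyU] at hy; exact zero_ne_one hy
  rw [← card_fixSub_hyp hQ h he hU, H27.card_eq_mul_of_orbit (fixSub (O Q) U)
    (fixSub (O Q) (U ⊔ F ∙ f)) f {y | Q y = 0 ∧ ∀ u ∈ U, polar Q u f = polar Q u y}
    (fun g => mem_fixSub_sup_span) (fun g hg => ⟨(H30.O_map g f).trans h.right, fun u hu => by
      rw [H30.O_smul_def, ← H30.O_polar g, hg u hu]⟩), mul_comm]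
  · congr 1
    have h1 := H27.ncard_orth_coset hQ U f
    rw [hj, show finrank F U + j + 1 - finrank F U = j + 1 by omega, pow_succ] at h1
    refine Nat.eq_of_mul_eq_mul_right (Fintype.card_pos (α := F)) (Eq.trans ?_ h1)
    rw [← Nat.card_coe_set_eq, ← Nat.card_coe_set_eq, ← Nat.card_eq_fintype_card, ← Nat.card_prod]
    refine Nat.card_congr ⟨fun p => ⟨p.1.1 + p.2 • e, fun u hu => ?_⟩,
      fun y => (⟨y.1 - Q y.1 • e, ?_, fun u hu => ?_⟩, Q y.1), ?_, ?_⟩
    · change polar Q u f = polar Q u _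
      rw [polar_add_right, H30.polar_smul_right', hU u hu, p.1.2.2 u hu]; simp
    · have : polar Q e f = polar Q e y.1 := y.2 e he
      rw [H30.Q_sub, H30.Q_smul, H30.polar_smul_right', h.left, polar_comm, ← this, h.pol]; ring
    · have : polar Q u f = polar Q u y.1 := y.2 u hu
      rw [polar_sub_right, H30.polar_smul_right', hU u hu, this]; simp
    · rintro ⟨⟨y, hy, hy'⟩, c⟩
      have : Q (y + c • e) = c := by
        rw [H30.Q_add, H30.Q_smul, H30.polar_smul_right', h.left, hy, polar_comm, ← hy' e he, h.pol]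
        ring
      simp [this]
    · rintro ⟨y, hy⟩
      simp
  · rintro y ⟨hy, hy'⟩
    obtain ⟨g, hg, hg'⟩ := H30.witt_step U ⊤ (fun _ _ _ => trivial) (fun _ _ _ _ _ _ _ => trivial)
      (h.right.trans hy.symm) hy'
      (by rw [H30.ker_polarBilin_eq_bot hQ, sup_bot_eq]; exact hfU f h.pol)
      (by rw [H30.ker_polarBilin_eq_bot hQ, sup_bot_eq]; exact hfU y (hy' e he ▸ h.pol))
    exact ⟨g, hg'.2, hg'.1⟩

/-- The order of `O⁺_{2r}(q)`. -/
def oPlusOrder (q r : ℕ) : ℕ :=
  if r = 0 then 1 else 2 * q ^ (r * (r - 1)) * (q ^ r - 1) *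
    ∏ i ∈ Finset.range (r - 1), (q ^ (2 * (i + 1)) - 1)

theorem choose_two_succ (k : ℕ) : (k + 1).choose 2 = k.choose 2 + k := by
  rw [Nat.choose_succ_succ' k 1, Nat.choose_one_right, add_comm]

theorem card_fixSub_sing [Fintype F] (hQ : (polarBilin Q).Nondegenerate) (hp : IsPlus (F := F) Q)
    {k r : ℕ} (hV : finrank F V = 2 * (k + r)) {U : Submodule F V} (hk : finrank F U = k)
    (hU : ∀ u ∈ U, Q u = 0) :
    Nat.card (fixSub (O Q) U) =
      Fintype.card F ^ (k.choose 2 + 2 * k * r) * oPlusOrder (Fintype.card F) r := by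
  induction k generalizing V with
  | zero =>
    rw [Submodule.finrank_eq_zero.1 hk, fixSub_bot, Subgroup.card_top, oPlusOrder]
    split_ifs with hr
    · rw [H30.card_O_of_finrank_zero (by omega)]; simp
    · rw [H30.card_O_plus hQ (m := r) (by omega) (by omega) hp, Nat.card_eq_fintype_card]; simp
  | succ k ih =>
    obtain ⟨e, he, he0⟩ := (Submodule.ne_bot_iff U).1 (H30.ne_bot_of_finrank_pos (by omega))
    obtain ⟨f, h⟩ := H30.exists_isHyp hQ (hU e he) he0
    have hUe : ∀ u ∈ U, polar Q u e = 0 := fun u hu => H30.mem_perp.1 (le_perp_of_sing hU he) u hu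
    have h1 := finrank_comap_hperp h he hUe
    have h2 := h.finrank_hperp
    rw [card_fixSub_step hQ h he hUe (j := k + 2 * r) (by omega), ih (h.nondegOn_hperp hQ).restrict
      ((h.isPlus_iff hQ).1 hp) (by omega) (by omega) fun u hu => hU _ hu, ← mul_assoc, ← pow_add,
      choose_two_succ]
    congr 2; ring

theorem card_stab_nonsingular [Fintype F] (hQ : (polarBilin Q).Nondegenerate) {r : ℕ}
    (hV : finrank F V = 2 * r + 2) {a : V} (ha : Q a ≠ 0) :
    Nat.card (MulAction.stabilizer (O Q) a) = 2 * spOrder (Fintype.card F) r := by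
  have h1 := H30.card_O_eq_nc_mul hQ ha
  have hq : 1 < Nat.card F := Finite.one_lt_card
  have hq' : (1 : ℤ) < Nat.card F := by exact_mod_cast hq
  apply Nat.cast_injective (R := ℤ)
  rw [spOrder, ← Nat.card_eq_fintype_card]
  push_cast [H30.cast_prod_pow_sub_one _ _ (by omega : 0 < Nat.card F)]
  zify at h1
  by_cases hp : IsPlus (F := F) Q
  · rw [H30.card_O_plus_int hQ hV hp, H30.nc_plus_ne_zero_int hQ hV hp ha] at h1
    have h2 : (Nat.card F : ℤ) ^ (2 * r + 1) - (Nat.card F : ℤ) ^ r ≠ 0 :=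
      sub_ne_zero.2 (pow_lt_pow_right₀ hq' (by omega)).ne'
    apply mul_left_cancel₀ h2
    rw [← h1]; ring
  · rw [H30.card_O_minus_int hQ hV hp, H30.nc_minus_int hQ hV hp, if_neg ha, sub_zero] at h1
    have h2 : (Nat.card F : ℤ) ^ (2 * r + 1) + (Nat.card F : ℤ) ^ r ≠ 0 := by positivity
    apply mul_left_cancel₀ h2
    rw [← h1]; ring

theorem card_fixSub_nonsing [Fintype F] (h2 : (2 : F) = 0) (hQ : (polarBilin Q).Nondegenerate)
    {k r : ℕ} (hV : finrank F V = 2 * (k + 1 + r)) {U : Submodule F V} (hk : finrank F U = k + 1)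
    (hU : ∀ u ∈ U, ∀ v ∈ U, polar Q u v = 0) (ha : ∃ a ∈ U, Q a ≠ 0) :
    Nat.card (fixSub (O Q) U) =
      Fintype.card F ^ ((k + 1).choose 2 + 2 * k * r) * (2 * spOrder (Fintype.card F) r) := by
  obtain ⟨a, haU, ha⟩ := ha
  have ha0 := H30.ne_zero_of_Q_ne_zero ha
  induction k generalizing V with
  | zero =>
    have : U = ⊥ ⊔ F ∙ a := by
      rw [bot_sup_eq]
      exact (Submodule.eq_of_le_of_finrank_eq ((Submodule.span_singleton_le_iff_mem _ _).2 haU)
        (by rw [finrank_span_singleton ha0, hk])).symm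
    rw [← card_stab_nonsingular hQ (by omega) ha, this]
    simp only [Nat.choose_succ_self, mul_zero, zero_mul, add_zero, zero_add, pow_zero, one_mul]
    congr 2
    ext g
    rw [mem_fixSub_sup_span, fixSub_bot]
    simp [H30.O_smul_def]
  | succ k ih =>
    obtain ⟨b, hbU, hb⟩ : ∃ b ∈ U, b ∉ F ∙ a := by
      by_contra hc
      push Not at hc
      have := Submodule.finrank_mono (show U ≤ F ∙ a from hc)
      rw [finrank_span_singleton ha0] at this
      omega
    obtain ⟨c, hc⟩ := exists_sq_eq_of_two_eq_zero h2 (-Q b / Q a)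
    have he : b + c • a ∈ U := U.add_mem hbU (U.smul_mem _ haU)
    have he0 : b + c • a ≠ 0 := fun h => hb (by
      rw [eq_neg_of_add_eq_zero_left h]
      exact Submodule.neg_mem _ (Submodule.smul_mem _ _ (Submodule.mem_span_singleton_self a)))
    have he1 : Q (b + c • a) = 0 := by
      rw [H30.Q_add, hU _ hbU _ (U.smul_mem _ haU), H30.Q_smul, ← pow_two, hc]; field_simp; ring
    generalize b + c • a = e at he he0 he1
    obtain ⟨f, h⟩ := H30.exists_isHyp hQ he1 he0
    have hUe : ∀ u ∈ U, polar Q u e = 0 := fun u hu => hU u hu e he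
    have h1 := finrank_comap_hperp h he hUe
    have h3 := h.finrank_hperp
    have h4 : Q (a - polar Q a f • e) ≠ 0 := by
      rwa [H30.Q_sub_smul_of_singular he1 (hU e he a haU)]
    rw [card_fixSub_step hQ h he hUe (j := k + 1 + 2 * r) (by omega),
      ih (h.nondegOn_hperp hQ).restrict (by omega) (by omega) (fun u hu v hv => hU _ hu _ hv)
        ⟨_, sub_mem_hperp h (hUe a haU)⟩ (U.sub_mem haU (U.smul_mem _ he)) h4
        (fun h => H30.ne_zero_of_Q_ne_zero h4 (congrArg Subtype.val h)), ← mul_assoc, ← pow_add, choose_two_succ (k + 1)]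
    congr 2; ring

omit [FiniteDimensional F V] in
theorem card_inf_ker {G : Type*} [Group G] (C : Subgroup G) (φ : G →* ℤˣ) :
    ((∃ g ∈ C, φ g = -1) → Nat.card C = 2 * Nat.card ↥(C ⊓ φ.ker)) ∧
    ((∀ g ∈ C, φ g = 1) → Nat.card C = Nat.card ↥(C ⊓ φ.ker)) := by
  constructor
  · rintro ⟨g, hg, hg'⟩
    have h1 : (φ.domRestrict C).range = ⊤ := by
      rw [eq_top_iff]
      intro x _
      rcases Int.units_eq_one_or x with rfl | rfl
      · exact one_mem _
      · exact ⟨⟨g, hg⟩, hg'⟩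
    rw [← Subgroup.card_mul_index (φ.domRestrict C).ker, Subgroup.index_ker, h1, Subgroup.card_top,
      mul_comm, MonoidHom.ker_domRestrict, ← Subgroup.inf_subgroupOf_left,
      Nat.card_congr (Subgroup.subgroupOfEquivOfLe inf_le_left).toEquiv]
    simp
  · intro h
    rw [inf_eq_left.2 h]

/-- The centraliser of an involution in the kernel of the Dickson invariant. -/
theorem card_centralizer_ker (h2 : (2 : F) = 0) (hQ : (polarBilin Q).Nondegenerate)
    (hexc : ¬ IsExc Q) (t : O Q) (ht2 : t.1 * t.1 = 1) :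
    (¬ (2 * rk t.1 = finrank F V ∧ AltType (polarBilin Q) t.1) →
      2 * Nat.card ↥(Subgroup.centralizer {t} ⊓ (dickson hQ).ker) =
      Nat.card (fixSub (O Q) (range (nil t.1))) *
        Nat.card (isomGroup (wall (polarBilin Q) (nil t.1)))) ∧
    ((2 * rk t.1 = finrank F V ∧ AltType (polarBilin Q) t.1) →
      Nat.card ↥(Subgroup.centralizer {t} ⊓ (dickson hQ).ker) =
      Nat.card (fixSub (O Q) (range (nil t.1))) *
        Nat.card (isomGroup (wall (polarBilin Q) (nil t.1)))) := by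
  rw [← card_centralizer_O h2 hQ t ht2]
  refine ⟨fun h => ((card_inf_ker _ _).1 ?_).symm, fun h => ((card_inf_ker _ _).2 fun g hg => ?_).symm⟩
  · obtain ⟨v, hv, hvt⟩ := exists_refl_comm h2 hQ t ht2 h
    exact ⟨refl Q v, Subgroup.mem_centralizer_singleton_iff.2 hvt, H30.dickson_refl hQ hv⟩
  · rw [dickson_of_conj h2 hQ hexc h (mul_inv_eq_iff_eq_mul.2
      (Subgroup.mem_centralizer_singleton_iff.1 hg)), inf_idem]
    exact Even.neg_one_pow ⟨_, rfl⟩

end Abstract

theorem card_comm_Omega {F : Type*} [Field F] [Finite F] {ι : Type} [Fintype ι] [DecidableEq ι]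
    {Q : QuadraticForm F (ι → F)} (h2 : (2 : F) = 0) (hQ : (polarBilin Q).Nondegenerate)
    (hexc : ¬ IsExc Q) (x : isometryGroup F ⇑Q) :
    Nat.card {g : Omega F ⇑Q // (g : isometryGroup F ⇑Q) * x = x * (g : isometryGroup F ⇑Q)} =
      Nat.card ↥(Subgroup.centralizer {isoEquiv Q x} ⊓ (dickson hQ).ker) := by
  refine Nat.card_congr ⟨fun g => ⟨isoEquiv Q g.1.1, Subgroup.mem_centralizer_singleton_iff.2
    (by rw [← map_mul, g.2, map_mul]), (mem_Omega_iff_dickson h2 hQ hexc _).1 g.1.2⟩,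
    fun g => ⟨⟨(isoEquiv Q).symm g.1, (mem_Omega_iff_dickson h2 hQ hexc _).2 (by simpa using g.2.2)⟩,
      (isoEquiv Q).injective (by simpa using Subgroup.mem_centralizer_singleton_iff.1 g.2.1)⟩,
    fun g => by simp, fun g => by simp⟩

end Cfsg.Agent.H79
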