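import Mathlib
import Cfsg.Agent.H44.K5Defs

/-! Unimodular positive definite integral forms of rank at most five. -/

set_option autoImplicit false

namespace Cfsg.Agent.H79.K5Uni

open Cfsg.Agent.H44.K5 Matrix

theorem cong {n : ℕ} {A : Matrix (Fin n) (Fin n) ℤ} (h : ∀ x : Fin n → ℤ, x ≠ 0 → 0 < x ⬝ᵥ A *ᵥ x)
    (U : Matrix (Fin n) (Fin n) ℤ) (hU : U.det ≠ 0) (x : Fin n → ℤ) (hx : x ≠ 0) :
    0 < x ⬝ᵥ (Uᵀ * A * U) *ᵥ x := by
  have h1 := h (U *ᵥ x) fun h0 => hx (Matrix.eq_zero_of_mulVec_eq_zero hU h0)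
  rwa [← mulVec_mulVec, ← mulVec_mulVec, dotProduct_mulVec, vecMul_transpose]

/-- block sum with a one by one identity -/
def blk {n : ℕ} (V : Matrix (Fin n) (Fin n) ℤ) : Matrix (Fin (n + 1)) (Fin (n + 1)) ℤ :=
  Matrix.of (Fin.cons (Fin.cons 1 0) fun i => Fin.cons 0 (V i))

theorem blk_mul {n : ℕ} (V W : Matrix (Fin n) (Fin n) ℤ) : blk V * blk W = blk (V * W) := by
  ext i j
  refine Fin.cases ?_ (fun i => ?_) i <;> refine Fin.cases ?_ (fun j => ?_) j <;>
    simp [blk, Matrix.mul_apply, Fin.sum_univ_succ]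

theorem blk_tr {n : ℕ} (V : Matrix (Fin n) (Fin n) ℤ) : (blk V)ᵀ = blk Vᵀ := by
  ext i j
  refine Fin.cases ?_ (fun i => ?_) i <;> refine Fin.cases ?_ (fun j => ?_) j <;> simp [blk]

theorem blk_one {n : ℕ} : blk (1 : Matrix (Fin n) (Fin n) ℤ) = 1 := by
  ext i j
  refine Fin.cases ?_ (fun i => ?_) i <;> refine Fin.cases ?_ (fun j => ?_) j <;>
    simp [blk, Matrix.one_apply, Fin.succ_ne_zero, (Fin.succ_ne_zero _).symm]

theorem det_blk {n : ℕ} (V : Matrix (Fin n) (Fin n) ℤ) : (blk V).det = V.det := by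
  rw [Matrix.det_succ_row_zero, Fin.sum_univ_succ]
  have : (blk V).submatrix Fin.succ (Fin.succAbove 0) = V := by
    ext i j
    simp [blk]
  rw [this]
  simp [blk]

theorem uni (herm : HermStmt) : UniStmt := by
  intro n
  induction n with
  | zero => intro _ A _ _ _; exact ⟨1, Subsingleton.elim _ _⟩
  | succ n ih =>
    intro hn A hs hp hd
    obtain ⟨U, hU, hb⟩ := herm n A hs hp
    have hBp := cong hp U hU.ne_zero
    have hBs : (Uᵀ * A * U)ᵀ = Uᵀ * A * U := by
      rw [transpose_mul, transpose_mul, transpose_transpose, hs, Matrix.mul_assoc]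
    have hBd : (Uᵀ * A * U).det = 1 := by
      rw [det_mul, det_mul, det_transpose, hd, mul_one]
      exact Int.isUnit_mul_self hU
    obtain ⟨B, hB⟩ : ∃ B, B = Uᵀ * A * U := ⟨_, rfl⟩
    rw [← hB] at hBp hBs hBd hb
    have h0 : 0 < B 0 0 := by
      have := hBp (Pi.single 0 1) (by simp)
      simpa using this
    have h1 : B 0 0 = 1 := by
      by_contra hne
      have h2 : 2 ≤ B 0 0 := by omega
      have h3 : (2 : ℤ) ^ (n + 1) ≤ B 0 0 ^ (n + 1) := pow_le_pow_left₀ (by norm_num) h2 _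
      rw [hd] at hb
      generalize B 0 0 ^ (n + 1) = t at h3 hb
      have hn' : n ≤ 4 := by omega
      interval_cases n <;> norm_num at h3 hb <;> omega
    have hsym : ∀ i j, B i j = B j i := fun i j => by
      have := congrFun (congrFun hBs j) i
      simpa using this
    let E : Matrix (Fin (n + 1)) (Fin (n + 1)) ℤ :=
      Matrix.of (Fin.cons (Fin.cons 1 fun j => - B 0 j.succ) fun i => Fin.cons 0 ((1 : Matrix (Fin n) (Fin n) ℤ) i))
    let S : Matrix (Fin n) (Fin n) ℤ := Matrix.of fun i j => B i.succ j.succ - B 0 i.succ * B 0 j.succ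
    have hE : E.det = 1 := by
      rw [Matrix.det_succ_column_zero, Fin.sum_univ_succ]
      have : E.submatrix (Fin.succAbove 0) Fin.succ = 1 := by
        ext i j
        simp [E]
      rw [this]
      simp [E]
    have hC : Eᵀ * B * E = blk S := by
      ext i j
      refine Fin.cases ?_ (fun i => ?_) i <;> refine Fin.cases ?_ (fun j => ?_) j <;>
        simp [E, S, blk, Matrix.mul_apply, Fin.sum_univ_succ, Matrix.one_apply, h1, hsym _ 0] <;> ring
    have hCp := cong hBp E (by rw [hE]; exact one_ne_zero)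
    rw [hC] at hCp
    have hSd : S.det = 1 := by
      rw [← det_blk, ← hC, det_mul, det_mul, det_transpose, hE, hBd]
      norm_num
    obtain ⟨V, hV⟩ := ih (by omega) S (by
      ext i j
      simp only [S, transpose_apply, of_apply]
      rw [hsym j.succ i.succ]
      ring) (by
      intro x hx
      have := hCp (Fin.cons 0 x) (fun h => hx (funext fun i => by simpa using congrFun h i.succ))
      simpa [blk, dotProduct, Matrix.mulVec, Fin.sum_univ_succ] using this) hSd
    refine ⟨U * E * blk V, ?_⟩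
    have : (U * E * blk V)ᵀ * A * (U * E * blk V) = (blk V)ᵀ * (Eᵀ * (Uᵀ * A * U) * E) * blk V := by
      simp only [transpose_mul, Matrix.mul_assoc]
    rw [this, ← hB, hC, blk_tr, blk_mul, blk_mul, hV, blk_one]

end Cfsg.Agent.H79.K5Uni
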