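import Cfsg.Agent.H78.G40B

/-! Project L40G: the Sylow subgroup and the fusion of `z` in `L₃(9)`. -/

set_option autoImplicit false
set_option linter.style.haveILetI false

namespace Cfsg.Agent.H79.L40Fz3b

open Subgroup Matrix Cfsg.Agent.H83 Cfsg.Agent.H46.L40 Cfsg.Agent.H28 Cfsg.Agent.H78.G40

local notation "C[" A "]" => Subgroup.centralizer (SetLike.coe A)

theorem zv : (e3 z0).1 = !![-1, 0, 0; 0, -1, 0; 0, 0, 1] := by decide +kernel
theorem av : (e3 a0).1 = !![1, 0, 0; 0, -1, 0; 0, 0, -1] := by decide +kernel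
theorem two : (2 : F9) ≠ 0 := by decide +kernel
theorem wv : (e3 w0).1 = !![0, 1, 0; -1, 0, 0; 0, 0, 1] := by decide +kernel
theorem iv : i3.1 = !![ii, 0, 0; 0, ii, 0; 0, 0, -1] := rfl
theorem ii2 : ii * ii = -1 := by decide +kernel
theorem ne1 : (1 : F9) ≠ -1 := fun h => two (by linear_combination h)
theorem ext' {x y u v : X3} (h : x.1 * y.1 = u.1 * v.1) : x * y = u * v := Subtype.ext h
theorem e3m {x y u v : S3} (h : x * y = u * v) : e3 x * e3 y = e3 u * e3 v := by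
  rw [← map_mul, h, map_mul]
theorem zz : e3 z0 * e3 z0 = 1 := by rw [← map_mul, show z0 * z0 = 1 by decide, map_one]
theorem az : e3 a0 * e3 z0 = e3 z0 * e3 a0 := e3m (by decide)
theorem wz : e3 w0 * e3 z0 = e3 z0 * e3 w0 := e3m (by decide)
theorem wa : e3 w0 * e3 a0 = e3 a0 * e3 z0 * e3 w0 := by
  rw [← map_mul e3 a0]; exact e3m (by decide)
theorem wa' : e3 w0 * e3 a0 ≠ e3 a0 * e3 w0 := fun h => by
  have e : (e3 w0).1 * (e3 a0).1 = (e3 a0).1 * (e3 w0).1 := congrArg Subtype.val h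
  rw [wv, av] at e
  have k := congrFun (congrFun e 0) 1
  simp [mul_apply, Fin.sum_univ_three] at k
  exact ne1 k.symm
theorem z1 : e3 z0 ≠ 1 := fun h => by
  have e : (e3 z0).1 = 1 := congrArg Subtype.val h
  rw [zv] at e
  have k := congrFun (congrFun e 0) 0
  simp at k
  exact ne1 k.symm
theorem iz : i3 * e3 z0 = e3 z0 * i3 := ext' (by rw [iv, zv]; simp)
theorem ia : i3 * e3 a0 = e3 a0 * i3 := ext' (by rw [iv, av]; simp)
theorem iw : e3 w0 * i3 = i3 * e3 w0 := ext' (by rw [iv, wv]; simp)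
theorem i2 : i3 * i3 = e3 z0 :=
  Subtype.ext (show i3.1 * i3.1 = (e3 z0).1 by rw [iv, zv]; simp [ii2])

theorem zero_of {x : F9} (h : x = -x) : x = 0 :=
  (mul_eq_zero.1 (by linear_combination h : (2 : F9) * x = 0)).resolve_left two

theorem memD {g : X3} : g ∈ C[V0.map e3] ↔ g * e3 z0 = e3 z0 * g ∧ g * e3 a0 = e3 a0 * g := by
  rw [V0, MonoidHom.map_closure, centralizer_closure, mem_centralizer_iff, Set.image_pair]
  simp [eq_comm]

theorem blk {g : X3} (h : g * e3 z0 = e3 z0 * g) :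
    g.1 0 2 = 0 ∧ g.1 1 2 = 0 ∧ g.1 2 0 = 0 ∧ g.1 2 1 = 0 := by
  have e : g.1 * (e3 z0).1 = (e3 z0).1 * g.1 := congrArg Subtype.val h
  rw [zv] at e
  have k := fun i j => congrFun (congrFun e i) j
  have k1 := k 0 2
  have k2 := k 1 2
  have k3 := k 2 0
  have k4 := k 2 1
  simp [mul_apply, Fin.sum_univ_three] at k1 k2 k3 k4
  exact ⟨zero_of k1, zero_of k2, zero_of k3.symm, zero_of k4.symm⟩

theorem blk' {g : X3} (h : g * e3 a0 = e3 a0 * g) : g.1 0 1 = 0 ∧ g.1 1 0 = 0 := by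
  have e : g.1 * (e3 a0).1 = (e3 a0).1 * g.1 := congrArg Subtype.val h
  rw [av] at e
  have k := fun i j => congrFun (congrFun e i) j
  have k1 := k 0 1
  have k2 := k 1 0
  simp [mul_apply, Fin.sum_univ_three] at k1 k2
  exact ⟨zero_of k1.symm, zero_of k2⟩

theorem pow8 {g : X3} (h : g ∈ C[V0.map e3]) : g ^ 8 = 1 := by
  obtain ⟨h1, h2⟩ := memD.1 h
  obtain ⟨a1, a2, a3, a4⟩ := blk h1
  obtain ⟨a5, a6⟩ := blk' h2
  have e : g.1 = diagonal fun i => g.1 i i := by
    ext i j : 1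
    fin_cases i <;> fin_cases j <;> simp [a1, a2, a3, a4, a5, a6]
  have d := g.2
  rw [e, det_diagonal] at d
  refine Subtype.ext ((Matrix.SpecialLinearGroup.coe_pow g 8).trans (?_ : g.1 ^ 8 = 1))
  rw [e, diagonal_pow, ← diagonal_one]
  congr 1
  funext i
  have := FiniteField.pow_card_sub_one_eq_one (g.1 i i) fun k =>
    one_ne_zero (d.symm.trans (Finset.prod_eq_zero (Finset.mem_univ i) k))
  rwa [card_F9] at this

/-- the normaliser of the four-group in the centraliser of `z` -/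
def TT {G : Type*} [Group G] (z a : G) (h : z * z = 1) : Subgroup G where
  carrier := {x | x * z = z * x ∧ (x * a = a * x ∨ x * a = a * z * x)}
  one_mem' := by simp
  mul_mem' := by
    rintro x y ⟨h1, h2⟩ ⟨h3, h4⟩
    refine ⟨by rw [mul_assoc, h3, ← mul_assoc, h1, mul_assoc], ?_⟩
    rcases h2 with h2 | h2 <;> rcases h4 with h4 | h4
    · exact Or.inl (by rw [mul_assoc, h4, ← mul_assoc, h2, mul_assoc])
    · exact Or.inr (by rw [mul_assoc, h4, ← mul_assoc, ← mul_assoc, h2, mul_assoc a, h1]; group)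
    · exact Or.inr (by rw [mul_assoc, h4, ← mul_assoc, h2, mul_assoc])
    · exact Or.inl (by
        rw [mul_assoc, h4, ← mul_assoc, ← mul_assoc, h2, mul_assoc (a * z), h1, ← mul_assoc,
          mul_assoc a, h]; group)
  inv_mem' := by
    rintro x ⟨h1, h2⟩
    have h3 : x⁻¹ * z = z * x⁻¹ := (Commute.inv_left (show Commute x z from h1)).eq
    refine ⟨h3, h2.imp (fun k => (Commute.inv_left (show Commute x a from k)).eq) fun k => ?_⟩
    calc x⁻¹ * a = x⁻¹ * (a * z * x) * (x⁻¹ * z) * (z * z)⁻¹ := by group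
      _ = _ := by rw [← k, h3, h]; group

theorem T_le : T3 ≤ TT (e3 z0) (e3 a0) zz :=
  sup_le (fun _ h => ⟨(memD.1 h).1, Or.inl (memD.1 h).2⟩) (zpowers_le.2 ⟨wz, Or.inr wa⟩)

theorem T2 : IsPGroup 2 T3 := fun x => ⟨4, Subtype.ext (by
  obtain ⟨h1, h2⟩ := T_le x.2
  have h3 : x.1 * x.1 ∈ C[V0.map e3] := memD.2
    ⟨by rw [mul_assoc, h1, ← mul_assoc, h1, mul_assoc], by
      rcases h2 with h2 | h2
      · rw [mul_assoc, h2, ← mul_assoc, h2, mul_assoc]
      · rw [mul_assoc, h2, ← mul_assoc, ← mul_assoc, h2, mul_assoc (e3 a0 * e3 z0), h1, ← mul_assoc,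
          mul_assoc (e3 a0), zz]; group⟩
  have := pow8 h3
  rwa [← pow_two, ← pow_mul] at this)⟩

/-- diagonal matrices -/
def dg (s : F9ˣ × F9ˣ) : X3 :=
  ⟨!![s.1, 0, 0; 0, s.2, 0; 0, 0, ((s.1 * s.2)⁻¹ : F9ˣ)], by
    rw [det_fin_three]
    simpa using (s.1 * s.2).mul_inv⟩

theorem dg_mem (s : F9ˣ × F9ˣ) : dg s ∈ C[V0.map e3] := by
  refine memD.2 ⟨ext' ?_, ext' ?_⟩
  · rw [zv]; simp [dg]
  · rw [av]; simp [dg]

theorem cardD : 64 ≤ Nat.card C[V0.map e3] := by
  have h : Function.Injective fun s => (⟨dg s, dg_mem s⟩ : C[V0.map e3]) := fun s t e =>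
    Prod.ext (Units.ext (congrArg (fun x : C[V0.map e3] => x.1.1 0 0) e))
      (Units.ext (congrArg (fun x : C[V0.map e3] => x.1.1 1 1) e))
  have := Nat.card_le_card_of_injective _ h
  rwa [Nat.card_prod, Nat.card_units, Nat.card_eq_fintype_card, card_F9] at this

theorem syl (h : Nat.card X3 = 42456960) : IsSylowIn 2 T3 ⊤ := by
  haveI : Fact (Nat.Prime 2) := ⟨Nat.prime_two⟩
  refine isSylowIn_of_not_dvd_relIndex le_top T2 fun k => ?_
  obtain ⟨n, hn⟩ := T2.exists_card_eq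
  have h1 : 64 < Nat.card T3 := lt_of_le_of_ne (cardD.trans (card_le_of_le le_sup_left)) fun e => by
    have := eq_of_le_of_card_ge (le_sup_left : C[V0.map e3] ≤ T3) (e.ge.trans cardD)
    exact wa' (memD.1 (this.ge (mem_sup_right (mem_zpowers _)))).2
  have h2 : 2 ^ 7 ∣ Nat.card T3 := by
    rw [hn] at h1 ⊢
    exact pow_dvd_pow 2 ((Nat.pow_lt_pow_iff_right (a := 2) (n := 6) (by norm_num)).1 h1)
  have h3 := Nat.mul_dvd_mul h2 k
  rw [relIndex_top_right, card_mul_index, h] at h3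
  norm_num at h3

theorem eig {a b c : F9} (h : a * a + b * c = 1) : ∃ s t u v : F9, s * v - t * u ≠ 0 ∧
    a * s + b * u = s ∧ c * s - a * u = u ∧ a * t + b * v = -t ∧ c * t - a * v = -v := by
  by_cases hc : c = 0
  · subst hc
    rcases mul_self_eq_one_iff.1 (by simpa using h : a * a = 1) with rfl | rfl
    · exact ⟨1, b, 0, -2, by simpa using two, by ring, by ring, by ring, by ring⟩
    · exact ⟨b, 1, 2, 0, by simpa using two, by ring, by ring, by ring, by ring⟩
  · exact ⟨a + 1, a - 1, c, c, fun e => mul_ne_zero two hc (by linear_combination e),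
      by linear_combination h, by ring, by linear_combination h, by ring⟩

theorem fus {x : X3} (x2 : x * x = 1) (x1 : x ≠ 1) (hz : x * e3 z0 = e3 z0 * x) (xz : x ≠ e3 z0) :
    ∃ p, p * e3 z0 = e3 z0 * p ∧ x = p * e3 a0 * p⁻¹ := by
  obtain ⟨a1, a2, a3, a4⟩ := blk hz
  obtain ⟨a, b, c, d, e, hx⟩ : ∃ a b c d e : F9, x.1 = !![a, b, 0; c, d, 0; 0, 0, e] :=
    ⟨x.1 0 0, x.1 0 1, x.1 1 0, x.1 1 1, x.1 2 2, by
      ext i j : 1
      fin_cases i <;> fin_cases j <;> simp [a1, a2, a3, a4]⟩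
  have q : x.1 * x.1 = 1 := congrArg Subtype.val x2
  have dt := x.2
  rw [hx, det_fin_three] at dt
  rw [hx] at q
  have k := fun i j => congrFun (congrFun q i) j
  have k1 := k 0 0
  have k2 := k 0 1
  have k3 := k 1 0
  have k4 := k 1 1
  simp [mul_apply, Fin.sum_univ_three] at k1 k2 k3 k4 dt
  have hd : a + d = 0 := by
    by_contra n
    have b0 : b = 0 := (mul_eq_zero.1 (by linear_combination k2 : (a + d) * b = 0)).resolve_left n
    have c0 : c = 0 := (mul_eq_zero.1 (by linear_combination k3 : (a + d) * c = 0)).resolve_left n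
    have ad : a - d = 0 :=
      (mul_eq_zero.1 (by linear_combination k1 - k4 : (a + d) * (a - d) = 0)).resolve_left n
    obtain rfl := sub_eq_zero.1 ad
    subst b0 c0
    have e1 : e = 1 := by linear_combination dt - e * k1
    subst e1
    rcases mul_self_eq_one_iff.1 (by simpa using k1 : a * a = 1) with rfl | rfl
    · exact x1 (Subtype.ext (hx.trans one_fin_three.symm))
    · exact xz (Subtype.ext (hx.trans zv.symm))
  obtain rfl : d = -a := by linear_combination hd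
  obtain rfl : e = -1 := by linear_combination -dt - e * k1
  obtain ⟨s, t, u, v, h0, h1, h2, h3, h4⟩ := eig k1
  let p : X3 := ⟨!![s, t, 0; u, v, 0; 0, 0, (s * v - t * u)⁻¹], by
    rw [det_fin_three]
    simpa [sub_mul] using mul_inv_cancel₀ h0⟩
  have pv : p.1 = !![s, t, 0; u, v, 0; 0, 0, (s * v - t * u)⁻¹] := rfl
  refine ⟨p, ext' ?_, eq_mul_inv_of_mul_eq (ext' ?_)⟩
  · rw [zv, pv]; simp
  · rw [av, pv, hx]
    simp [h1, h3, ← sub_eq_add_neg, h2, h4]

theorem fz3b : Fz3bS := fun h => by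
  have iT : i3 ∈ T3 := mem_sup_left (memD.2 ⟨iz, ia⟩)
  have zi : e3 z0 ∈ zpowers i3 := i2 ▸ mul_mem (mem_zpowers _) (mem_zpowers _)
  refine ⟨syl h.2.2.1, fun x hx => mem_centralizer_singleton_iff.2 (T_le hx).1, zi,
    T2.to_le (zpowers_le.2 iT), iT, mem_sup_left (memD.2 ⟨az, rfl⟩), ?_, fun x hx => ?_,
    fun x hc hz xz => ?_⟩
  · rintro ⟨k, hk⟩
    exact wa' (hk ▸ (Commute.zpow_right (show Commute (e3 w0) i3 from iw) k).eq)
  · rcases (T_le hx).2 with k | k
    · rw [k, mul_inv_cancel_right, mul_inv_cancel]; exact one_mem _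
    · rw [k, mul_inv_cancel_right, az, mul_inv_cancel_right]; exact zi
  · obtain ⟨g, rfl⟩ := isConj_iff.1 hc
    refine fus (by rw [conj_mul, zz]; group) (fun e => ?_) hz xz
    exact z1 (conj_eq_one_iff.1 e)

end Cfsg.Agent.H79.L40Fz3b
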