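import Cfsg.Agent.H27.QCls

/-!
# Two quadratic elements generating a group with an involution
-/

set_option autoImplicit false

namespace Cfsg.Agent.H79

open Module H36 H27

variable {F V : Type*} [Field F] [Finite F] [AddCommGroup V] [Module F V] [FiniteDimensional F V]

theorem exists_involution' (h2 : (2 : F) ≠ 0) {X : Subgroup (End F V)ˣ} {A B : End F V}
    (hA : A * A = 0) (hB : B * B = 0) (hA' : InG X (1 + A)) (hB' : InG X (1 + B))
    (hn : ¬ IsNilpotent (A * B + B * A)) :
    ∃ z q : End F V, InG X z ∧ z * z = 1 ∧ z ≠ 1 ∧ (Commute q A ∧ Commute q B) ∧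
      z = 1 + q * (A * B + B * A) := by
  obtain ⟨p, hp⟩ := CharP.exists F
  have : Fact p.Prime := ⟨CharP.char_is_prime F p⟩
  have hp2 : p ≠ 2 := by
    rintro rfl
    exact h2 (by exact_mod_cast CharP.cast_eq_zero F 2)
  have : Finite V := Module.finite_of_finite F
  have : Finite (End F V) := Module.finite_of_finite F
  have : Nontrivial (End F V) := by
    by_contra h
    rw [not_nontrivial_iff_subsingleton] at h
    exact hn ⟨0, Subsingleton.elim _ _⟩
  have : CharP (End F V) p := charP_of_injective_algebraMap (algebraMap F (End F V)).injective p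
  let E := Subgroup.closure ({un A hA, un B hB} : Set (End F V)ˣ)
  let ψ : E →* MulAut (Multiplicative V) :=
    { toFun := fun g => AddEquiv.toMultiplicative
        (LinearMap.GeneralLinearGroup.toLinearEquiv g.1).toAddEquiv
      map_one' := MulEquiv.ext fun _ => rfl
      map_mul' := fun _ _ => MulEquiv.ext fun _ => rfl }
  have hq : ∀ (C : End F V) (hC : C * C = 0) (h : un C hC ∈ E), H53.QuadAct ψ ⟨un C hC, h⟩ := by
    intro C hC h v
    change Multiplicative.ofAdd ((1 + C) ((1 + C) v.toAdd + -v.toAdd)) =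
      Multiplicative.ofAdd ((1 + C) v.toAdd + -v.toAdd)
    simp [← End.mul_apply, hC]
  have hab := H53.not_abTwo_of_pair hp2 (V := Multiplicative V) (fun v => by
      change Multiplicative.ofAdd (p • v.toAdd) = Multiplicative.ofAdd 0
      rw [← Nat.cast_smul_eq_nsmul F, CharP.cast_eq_zero, zero_smul])
    ψ (H53.closure_pair_subtype (un A hA) (un B hB)) (hq _ _ _) (hq _ _ _)
    ⟨⟨un A hA * un B hB, E.mul_mem (Subgroup.subset_closure (by simp))
      (Subgroup.subset_closure (by simp))⟩, fun k hk => hn (by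
        set g := un A hA * un B hB with hg
        have h1 : (g : End F V) ^ p ^ k = 1 := LinearMap.ext fun v => by
          have := congrArg (fun φ : MulAut (Multiplicative V) =>
            (φ (Multiplicative.ofAdd v)).toAdd) hk
          rw [← Units.val_pow_eq_pow_val]
          exact this
        have h3 : IsNilpotent ((g : End F V) - 1) :=
          ⟨p ^ k, by rw [sub_pow_char_pow_of_commute _ _ (Commute.one_right _), h1, one_pow,
            sub_self]⟩
        have h4 : A * B + B * A = (g⁻¹ : (End F V)ˣ) * (((g : End F V) - 1) * (g - 1)) := by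
          rw [← theta_eq, ← val_un A hA, ← val_un B hB, ← val_inv_un A hA,
            ← val_inv_un B hB, ← Units.val_mul, ← Units.val_mul, ← mul_inv_rev, ← hg,
            theta_eq_mul]
        have h5 : Commute ((g⁻¹ : (End F V)ˣ) : End F V) ((g : End F V) - 1) :=
          (Commute.units_inv_left (Commute.refl _)).sub_right (Commute.one_right _)
        rw [h4]
        exact (h5.mul_right h5).isNilpotent_mul_left
          ((Commute.refl _).isNilpotent_mul_left h3))⟩
  obtain ⟨z, hz1, hz2⟩ : ∃ z : E, z ≠ 1 ∧ z * z = 1 := by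
    by_contra! H
    have key : ∀ (k : ℕ) (g : E), g ^ 2 ^ k = 1 → g = 1 := fun k => by
      induction k with
      | zero => simp
      | succ k ih =>
        intro g hg
        refine ih g (by_contra fun h => H _ h ?_)
        rw [← pow_two, ← pow_mul, ← pow_succ, hg]
    refine hab fun P hP => ⟨⟨fun a b => ?_⟩⟩
    obtain ⟨k, hk⟩ := hP a
    rw [show a = 1 from Subtype.ext (key k a (congrArg Subtype.val hk)), one_mul, mul_one]
  have h1 := pform_of_mem hA hB z.2
  have h3 : (z.1⁻¹ : (End F V)ˣ) = z.1 := inv_eq_of_mul_eq_one_right (congrArg Subtype.val hz2)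
  rw [h3] at h1
  obtain ⟨q, hq, h4⟩ := h1.two_mul
  refine ⟨z.1, (2 : F)⁻¹ • q, ⟨z.1, ?_, rfl⟩, congrArg (fun g : E => (g.1 : End F V)) hz2,
    fun h => hz1 (Subtype.ext (Units.ext h)), ⟨hq.1.smul_left _, hq.2.smul_left _⟩, ?_⟩
  · refine (Subgroup.closure_le X).2 ?_ z.2
    rintro _ (rfl | rfl)
    exacts [hA'.mem rfl, hB'.mem rfl]
  · rw [← two_smul F, ← two_smul F] at h4
    rw [← inv_smul_smul₀ h2 (z.1 : End F V), h4, smul_add, inv_smul_smul₀ h2, smul_mul_assoc]

theorem exists_invol_weak (h2 : (2 : F) ≠ 0) {X : Subgroup (End F V)ˣ} {A B : End F V}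
    (hA : A * A = 0) (hB : B * B = 0) (hA' : InG X (1 + A)) (hB' : InG X (1 + B))
    (hn : ¬ IsNilpotent (A * B + B * A)) :
    ∃ z, Invol X A z ∧ Invol X B z ∧ ∀ p, z p - p ∈ LinearMap.range A ⊔ LinearMap.range B := by
  obtain ⟨z, q, hz, hzz, hz1, hq, hzq⟩ := exists_involution' h2 hA hB hA' hB' hn
  have hΘ := theta_commute hA hB
  have hzA : Commute z A := hzq ▸ (Commute.one_left _).add_left (hq.1.mul_left hΘ.1)
  have hzB : Commute z B := hzq ▸ (Commute.one_left _).add_left (hq.2.mul_left hΘ.2)
  have e1 : ∀ p, q (A p) = A (q p) := LinearMap.congr_fun hq.1.eq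
  have e2 : ∀ p, q (B p) = B (q p) := LinearMap.congr_fun hq.2.eq
  have hne : ¬ ∀ p, z ((A * B + B * A) p) = (A * B + B * A) p := fun h => hz1 (by
    refine LinearMap.ext fun p => ?_
    have h1 : ∀ p, z p = p + (A * B + B * A) (q p) := fun p => by
      rw [hzq, (commute_theta hq).eq]; rfl
    have h4 := LinearMap.congr_fun hzz p
    rw [End.mul_apply, h1 p, map_add, h, h1 p, End.one_apply, add_assoc, add_eq_left,
      ← two_smul F] at h4
    rw [h1, (smul_eq_zero.1 h4).resolve_left h2, add_zero, End.one_apply])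
  have eA : ∀ p, z (A p) = A (z p) := LinearMap.congr_fun hzA.eq
  have eB : ∀ p, z (B p) = B (z p) := LinearMap.congr_fun hzB.eq
  refine ⟨z, ⟨hz, LinearMap.congr_fun hzz, eA, fun p hp => ⟨q (B p), by rw [hzq]; simp [hp, e1]⟩,
    ?_⟩, ⟨hz, LinearMap.congr_fun hzz, eB, fun p hp => ⟨q (A p), by rw [hzq]; simp [hp, e2]⟩, ?_⟩,
    fun p => ?_⟩
  · by_contra! H
    exact hne fun p => by simp only [LinearMap.add_apply, End.mul_apply, map_add, eB (A p), H]
  · by_contra! H
    exact hne fun p => by simp only [LinearMap.add_apply, End.mul_apply, map_add, eA (B p), H]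
  · rw [hzq]
    simpa [e1, e2] using Submodule.add_mem_sup (LinearMap.mem_range_self A (q (B p)))
      (LinearMap.mem_range_self B (q (A p)))

end Cfsg.Agent.H79
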